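import Groth.Agent.Lefpen.H715.Cone

/-!
**The theorem on the cone**: homogeneous version of the local theorem for the cone of a smooth complete
intersection surface in characteristic `p`.
-/

set_option autoImplicit false
universe u

namespace Groth.Agent.Lefpen.H715.ConeMain

open IsLocalRing MvPolynomial Groth.Agent.Lefpen.H715.RegA Groth.Agent.Lefpen.H715.Cone
  Groth.Agent.Lefpen.H715.LiftFree
open Groth.Agent.Lefpen.H718.Reg Groth.Agent.Lefpen.H718.ConeCM Groth.Agent.Lefpen.H718.Grade

variable {k : Type u} [Field k] {N d : ℕ} (g : Fin d → MvPolynomial (Fin (N + 1)) k)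

/-- the tuple generates an invertible module off the origin (on the cone ring) -/
def Inv0 {r : ℕ} (u : Fin r → A g) : Prop :=
  ∀ β, ∃ R : ℕ, mk g (X β) ^ R ∈
    Ideal.span {s : A g | ∃ i, u i ≠ 0 ∧ ∀ l, ∃ c : A g, s * u l = c * u i}

/-- comparison of tuples in the fraction field off the origin (on the cone ring) -/
def Le0 {Q : Type u} [Field Q] [Algebra (A g) Q] {r r' : ℕ} (v : Fin r → Q) (u : Fin r' → Q) :
    Prop :=
  ∀ β, ∃ R : ℕ, ∀ l, (mk g (X β) ^ R) • v l ∈ Submodule.span (A g) (Set.range u)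

theorem cone (p : ℕ) [Fact p.Prime] [CharP k p] (hN : N = 2 + d) {a : Fin d → ℕ}
    (hh : ∀ i, (g i).IsHomogeneous (a i)) (hg : ∀ i, constantCoeff (g i) = 0) (hJ : JacCond g)
    [IsDomain (A g)] (Q : Type u) [Field Q] [Algebra (A g) Q] [IsFractionRing (A g) Q]
    {r : ℕ} (m : Fin r → ℕ) (u : Fin r → A g) (hu : ∀ l, Homog g hh (m l) (u l)) (k₀ : Fin r)
    (hk₀ : u k₀ ≠ 0) (hinv : Inv0 g u)
    (h : ∀ n : ℕ, ∃ (r' : ℕ) (j : Fin r' → A g) (w : Q), w ≠ 0 ∧ (∃ i, j i ≠ 0) ∧ Inv0 g j ∧
      Le0 g (fun l => algebraMap (A g) Q (u l)) (fun l => w * algebraMap (A g) Q (j l) ^ p ^ n) ∧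
      Le0 g (fun l => w * algebraMap (A g) Q (j l) ^ p ^ n) (fun l => algebraMap (A g) Q (u l))) :
    ∃ (D : ℕ) (f : A g) (v : Fin r → A g), Homog g hh D f ∧ f ≠ 0 ∧
      (∀ l, f * u l = v l * u k₀) ∧
      (∀ l, v l = 0 ∨ (m k₀ ≤ D + m l ∧ Homog g hh (D + m l - m k₀) (v l))) ∧
      ∀ β, ∃ R : ℕ, mk g (X β) ^ R ∈ Ideal.span (Set.range v) := by
  have hm := isMaximal_irr g hg
  have hp : (irr g).IsPrime := hm.isPrime
  let P₀ : Ideal (MvPolynomial (Fin (N + 1)) k) := (irr g).comap (mk g)
  have hP₀ : P₀.IsPrime := inferInstanceAs (((irr g).comap (mk g)).IsPrime)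
  let S := Localization.AtPrime P₀
  let A' := Localization.AtPrime (irr g)
  have hinjQ : Function.Injective (algebraMap (A g) Q) := IsFractionRing.injective (A g) Q
  let φ : S →+* A' := Localization.localRingHom P₀ (irr g) (mk g) rfl
  let _ : Algebra S A' := φ.toAlgebra
  have hunit : ∀ y : (irr g).primeCompl, IsUnit (algebraMap (A g) Q y) := by
    intro y
    refine IsUnit.mk0 _ ?_
    rw [Ne, map_eq_zero_iff _ hinjQ]
    intro h0
    exact y.2 (by rw [h0]; exact zero_mem _)
  let ψ : A' →+* Q := IsLocalization.lift (M := (irr g).primeCompl) hunit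
  let _ : Algebra A' Q := ψ.toAlgebra
  have hψ0 : ∀ y : A g, ψ (algebraMap (A g) A' y) = algebraMap (A g) Q y := fun y =>
    IsLocalization.lift_eq (S := A') hunit y
  have t1 : IsScalarTower (A g) A' Q := IsScalarTower.of_algebraMap_eq (fun y => (hψ0 y).symm)
  let _ : Algebra S Q := (ψ.comp φ).toAlgebra
  have t2 : IsScalarTower S A' Q := IsScalarTower.of_algebraMap_eq' rfl
  have hdomA' : IsDomain A' := IsLocalization.isDomain_of_le_nonZeroDivisors A'
    (Ideal.primeCompl_le_nonZeroDivisors (irr g))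
  have hfrac : IsFractionRing A' Q :=
    IsFractionRing.isFractionRing_of_isDomain_of_isLocalization (irr g).primeCompl A' Q
  have hreg : IsRegularLocalRing S := inferInstance
  -- compatibilities
  have hφ : ∀ t : MvPolynomial (Fin (N + 1)) k, algebraMap S A' (algebraMap _ S t) =
      algebraMap (A g) A' (mk g t) := fun t => Localization.localRingHom_to_map P₀ (irr g) (mk g) rfl t
  have hψ : ∀ y : A g, algebraMap A' Q (algebraMap (A g) A' y) = algebraMap (A g) Q y := hψ0
  have hc : ∀ t : MvPolynomial (Fin (N + 1)) k, algebraMap S Q (algebraMap _ S t) =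
      algebraMap (A g) Q (mk g t) := by
    intro t
    rw [IsScalarTower.algebraMap_apply S A' Q, hφ, hψ]
  have hsurj0 : Function.Surjective (mk g) := Ideal.Quotient.mk_surjective
  have hsurj : Function.Surjective (algebraMap S A') := by
    intro y
    obtain ⟨⟨b, s⟩, hbs⟩ := IsLocalization.surj (irr g).primeCompl y
    obtain ⟨b', rfl⟩ := hsurj0 b
    obtain ⟨s', hs'⟩ := hsurj0 s.1
    have hs'' : s' ∈ P₀.primeCompl := by
      intro h0
      exact s.2 (by rw [← hs']; exact h0)
    refine ⟨IsLocalization.mk' S b' ⟨s', hs''⟩, ?_⟩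
    have h1 : algebraMap S A' (IsLocalization.mk' S b' ⟨s', hs''⟩) * algebraMap (A g) A' s.1 =
        algebraMap (A g) A' (mk g b') := by
      rw [← hs', ← hφ, ← map_mul, ← hφ]
      congr 1
      exact IsLocalization.mk'_spec S b' ⟨s', hs''⟩
    exact (IsLocalization.map_units A' s).mul_right_cancel (h1.trans hbs.symm)
  let G : Fin d → S := fun i => algebraMap _ S (g i)
  have haa : aa G Finset.univ = (Ideal.span (Set.range g)).map (algebraMap _ S) := by
    unfold aa
    rw [Finset.coe_univ, Set.image_univ, Ideal.map_span, ← Set.range_comp]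
    rfl
  have hker : ∀ x, algebraMap S A' x = 0 ↔ x ∈ aa G Finset.univ := by
    intro x
    rw [haa]
    constructor
    · intro h0
      obtain ⟨b, s, rfl⟩ := IsLocalization.exists_mk'_eq P₀.primeCompl x
      have h1 : algebraMap (A g) A' (mk g b) = 0 := by
        rw [← hφ, ← IsLocalization.mk'_spec S b s, map_mul, h0, zero_mul]
      have h2 : mk g b = 0 := by
        apply hinjQ
        rw [← hψ, h1, map_zero, map_zero]
      have h3 : b ∈ Ideal.span (Set.range g) := Ideal.Quotient.eq_zero_iff_mem.mp h2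
      rw [IsLocalization.mk'_eq_mul_mk'_one]
      exact Ideal.mul_mem_right _ _ (Ideal.mem_map_of_mem _ h3)
    · intro hx
      have hle : (Ideal.span (Set.range g)).map (algebraMap _ S) ≤
          RingHom.ker (algebraMap S A') := by
        rw [Ideal.map_le_iff_le_comap, Ideal.span_le]
        rintro _ ⟨i, rfl⟩
        change algebraMap S A' (algebraMap _ S (g i)) = 0
        rw [hφ]
        have : mk g (g i) = 0 := Ideal.Quotient.eq_zero_iff_mem.mpr (Ideal.subset_span ⟨i, rfl⟩)
        rw [this, map_zero]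
      exact hle hx
  -- the maximal ideal
  let x : Fin (N + 1) → S := fun β => algebraMap (MvPolynomial (Fin (N + 1)) k) S (X β)
  have hP₀eq : P₀ = Ideal.span (Set.range X) := comap_irr g hg
  have hmS : maximalIdeal S = Ideal.span (Set.range x) := by
    have e1 : maximalIdeal S = P₀.map (algebraMap (MvPolynomial (Fin (N + 1)) k) S) :=
      (Localization.AtPrime.map_eq_maximalIdeal).symm
    have e2 : P₀.map (algebraMap (MvPolynomial (Fin (N + 1)) k) S) =
        (Ideal.span (Set.range X)).map (algebraMap (MvPolynomial (Fin (N + 1)) k) S) :=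
      congrArg (Ideal.map (algebraMap (MvPolynomial (Fin (N + 1)) k) S)) hP₀eq
    rw [e1, e2, Ideal.map_span, ← Set.range_comp]
    rfl
  have hxm : ∀ β, x β ∈ maximalIdeal S := fun β => by
    rw [hmS]; exact Ideal.subset_span ⟨β, rfl⟩
  -- regularity of the equations
  have hGm : ∀ i, G i ∈ maximalIdeal S := by
    intro i
    rw [← Localization.AtPrime.map_eq_maximalIdeal]
    exact Ideal.mem_map_of_mem _ (g_mem g (irr g) i)
  have hGreg : RegSeq.HReg G := by
    refine RegSeq.hreg_of_isWeaklyRegular G ?_ hGm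
    have h1 := (isRegular_of_height _ (eqs_mem g (irr g)) (le_height_eqs g hJ (by omega) (irr g))).toIsWeaklyRegular
    have h2 : eqs g (irr g) = List.ofFn G := by
      rw [eqs, List.map_ofFn]
      rfl
    rw [h2] at h1
    exact h1
  have hdim : ringKrullDim S = (d + 3 : ℕ) := by
    have h1 : ringKrullDim S = P₀.height := IsLocalization.AtPrime.ringKrullDim_eq_height P₀ S
    rw [h1, hP₀eq, height_span_X, hN]
    have : 2 + d + 1 = d + 3 := by omega
    rw [this]
    rfl
  have hcharS : CharP S p := by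
    have h1 : CharP (MvPolynomial (Fin (N + 1)) k) p := inferInstance
    have h2 : (p : S) = 0 := by
      rw [← map_natCast (algebraMap (MvPolynomial (Fin (N + 1)) k) S) p, CharP.cast_eq_zero, map_zero]
    exact (CharP.charP_iff_prime_eq_zero (Fact.out : p.Prime)).mpr h2
  -- transfer of the hypotheses
  have hspan : ∀ {r₁ : ℕ} (v : Fin r₁ → A g), (∃ i, v i ≠ 0) → Inv0 g v →
      InvU S (fun l => algebraMap (A g) Q (v l)) := by
    intro r₁ v hv0 hv
    refine invU_of_pow x hmS.le _ fun β => ?_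
    obtain ⟨R, hR⟩ := hv β
    refine ⟨R, ?_⟩
    have h1 : x β ^ R = algebraMap (MvPolynomial (Fin (N + 1)) k) S (X β ^ R) := (map_pow _ _ _).symm
    rw [h1]
    refine mem_span_of_mem (mk g) hsurj0 hc (fun l => algebraMap (A g) Q (v l)) ?_ _ ?_
    · obtain ⟨i, hi⟩ := hv0
      exact ⟨i, by rw [Ne, map_eq_zero_iff _ hinjQ]; exact hi⟩
    · rw [map_pow]
      refine Ideal.span_mono ?_ hR
      rintro s ⟨i, hi, hs⟩
      refine ⟨i, by rw [Ne, map_eq_zero_iff _ hinjQ]; exact hi, fun l => ?_⟩
      obtain ⟨c, hc'⟩ := hs l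
      refine ⟨c, ?_⟩
      rw [Algebra.smul_def, Algebra.smul_def, ← map_mul, hc', map_mul]
  have hle : ∀ {r₁ r₂ : ℕ} (v : Fin r₁ → Q) (w : Fin r₂ → Q), Le0 g v w → LeU S v w := by
    intro r₁ r₂ v w hvw
    refine leU_of_pow x hmS.le v w fun β => ?_
    obtain ⟨R, hR⟩ := hvw β
    refine ⟨R, fun l => ?_⟩
    have h1 : x β ^ R • v l = (mk g (X β) ^ R) • v l := by
      rw [Algebra.smul_def, Algebra.smul_def, ← map_pow (mk g), ← hc, map_pow
        (algebraMap (MvPolynomial (Fin (N + 1)) k) S)]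
    rw [h1]
    exact span_le_span (mk g) hsurj0 hc w (hR l)
  obtain ⟨w, hw, h1, h2, h3⟩ := Local.main' (A := A') p G hGreg hGm hdim hsurj hker
    (fun l => algebraMap (A g) Q (u l)) (hspan u ⟨k₀, hk₀⟩ hinv) (fun n => by
      obtain ⟨r', j, w, hw, hj0, hj, hj1, hj2⟩ := h n
      refine ⟨r', fun l => algebraMap (A g) A' (j l), w, hw, ?_, ?_, ?_⟩
      · simp only [hψ]
        exact hspan j hj0 hj
      · simp only [hψ]
        exact hle _ _ hj1
      · simp only [hψ]
        exact hle _ _ hj2)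
  exact descent (A' := A') (S := S) g hh m u hu k₀ hk₀ x (fun β => hφ (X β)) hxm w hw h1 h2 h3

end Groth.Agent.Lefpen.H715.ConeMain
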