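import Groth.Agent.Lefpen.H21.Asm44

/-!
# Assembly of S4044, `InfDiv` in degrees at least two
-/

set_option autoImplicit false
universe u

open CategoryTheory AlgebraicGeometry Limits TopologicalSpace Opposite

namespace Groth.Agent.Lefpen.H715.Asm44b

open LefPen Groth.Agent.CohqB.ProjBC Groth.Agent.Lefpen.H21.CiBase
  Groth.Agent.Lefpen.H21.PurInsep Groth.Agent.Lefpen.H21.PicTwist Groth.Agent.Grpsch.PicGrp
  Groth.Agent.Lefpen.H725.Frame Groth.Agent.Lefpen.H718.Reg Groth.Agent.Lefpen.H21.Asm44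

/-- **The assembly of S4044**, with `hinf` (NL-8) in degrees at least two. -/
theorem result_of'
    (hdiv : ∀ (p : ℕ) [Fact p.Prime] (d : ℕ) (a : Fin d → ℕ), 1 ≤ d → (∀ j, 2 ≤ a j) →
      (2 < ∑ j, (a j - 1)) → ∀ (K : Type u) [Field K] [CharP K p] [IsSepClosed K]
      (F : Frame K (Idx (2 + d) a)) (G : ∀ j, Form (2 + d) K (a j)), (∀ jm, F.z jm = coeffs G jm) →
      JacCond (fun j ↦ (G j).1) → PDiv p G)
    (hinf : ∀ (p : ℕ) [Fact p.Prime] (d : ℕ) (a : Fin d → ℕ), (∀ j, 2 ≤ a j) →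
      ∀ (K : Type u) [Field K] [CharP K p] (G : ∀ j, Form (2 + d) K (a j)),
      JacCond (fun j ↦ (G j).1) → InfDiv p G)
    (htf : ∀ (k : Type u) [Field k] [IsAlgClosed k] (d : ℕ), 1 ≤ d → ∀ (a : Fin d → ℕ),
      (∀ j, 1 ≤ a j) → ∀ (G : ∀ j : Fin d, LefPen.Form (2 + d) k (a j))
      [SmoothOfRelativeDimension 2
        ((LefPen.ciIdeal G).subschemeι ≫ CohB1.ProjSpace.toSpec (2 + d) k)], TorsFree G)
    (h0 : ∀ (k : Type u) [Field k] [IsAlgClosed k] [CharZero k] (d : ℕ) (a : Fin d → ℕ), 1 ≤ d →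
      (∀ j, 2 ≤ a j) → (2 < ∑ j, (a j - 1)) →
      (∀ (k' : Type u) [Field k'] [IsAlgClosed k'] (p : ℕ) [Fact p.Prime] [CharP k' p]
        (G : ∀ j, Form (2 + d) k' (a j)), AlgebraicIndependent (⊥ : Subfield k') (coeffs G) →
          PicTriv G) →
      ∀ (G : ∀ j, Form (2 + d) k (a j)), AlgebraicIndependent (⊥ : Subfield k) (coeffs G) →
        PicTriv G)
    (k : Type u) [Field k] [IsAlgClosed k] (d : ℕ) (hd : 1 ≤ d)
    (a : Fin d → ℕ) (ha : ∀ j, 2 ≤ a j) (hex : 2 < ∑ j, (a j - 1))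
    (G : ∀ j : Fin d, LefPen.Form (2 + d) k (a j))
    (hG : AlgebraicIndependent (⊥ : Subfield k)
      (fun jm : (Σ j : Fin d, {m : Fin (2 + d + 1) →₀ ℕ // m.degree = a j}) =>
        MvPolynomial.coeff jm.2.1 (G jm.1).1)) :
    (∀ L : (LefPen.ciIdeal G).subscheme.Modules, PicF.IsInvertible L →
      ∃ e : ℤ, Nonempty (L ≅ (Scheme.Modules.pullback (LefPen.ciIdeal G).subschemeι).obj (Twist.twistProjSpace (2 + d) k e))) ∧
    (∀ e : ℤ, Nonempty ((Scheme.Modules.pullback (LefPen.ciIdeal G).subschemeι).obj (Twist.twistProjSpace (2 + d) k e) ≅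
        Coh.structureModule (LefPen.ciIdeal G).subscheme) → e = 0) := by
  have ha1 : ∀ j, 1 ≤ a j := fun j ↦ le_trans one_le_two (ha j)
  refine ⟨?_, fun e h ↦ Groth.Agent.Lefpen.H608.TwistTriv.eq_zero_of_twist_trivial G (by omega)
    (fun j ↦ ha1 j) e h⟩
  have hp : ∀ (k' : Type u) [Field k'] [IsAlgClosed k'] (p : ℕ) [Fact p.Prime] [CharP k' p]
        (G : ∀ j, Form (2 + d) k' (a j)), AlgebraicIndependent (⊥ : Subfield k') (coeffs G) →
          PicTriv G := by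
    intro k' _ _ p _ _ G' hG'
    have hs := Groth.Agent.Lefpen.H649.GenericSmooth.smooth_of_generic_prime (n := 2) ha1 G' hG'
    exact picTriv_charP p G' ha1 hG' (fun K _ _ _ F G0 hF hJ ↦ hdiv p d a hd ha hex K F G0 hF hJ)
      (fun K _ _ G0 hJ ↦ hinf p d a ha K G0 hJ) (htf k' d hd a ha1 G')
  obtain ⟨p, hpk⟩ := CharP.exists k
  rcases CharP.char_is_prime_or_zero k p with h | rfl
  · have : Fact p.Prime := ⟨h⟩
    exact hp k p G hG
  · have : CharZero k := CharP.charP_to_charZero k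
    exact h0 k d a hd ha hex hp G hG

end Groth.Agent.Lefpen.H715.Asm44b
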