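import Groth.Agent.Lefpen.H715.Cplx
import Mathlib.RingTheory.HopkinsLevitzki
import Mathlib.RingTheory.Ideal.KrullsHeightTheorem

/-!
Upper bound for the length of the homology of a three-term sequence in terms of its kernel.
-/

set_option autoImplicit false
universe u

namespace Groth.Agent.Lefpen.H715.Bound

open IsLocalRing Groth.Agent.Lefpen.H715.LiftFree Groth.Agent.Lefpen.H715.Cplx

section FiniteLength

variable {R : Type*} [CommRing R] [IsLocalRing R] [IsNoetherianRing R]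

theorem isArtinianRing_quotient_pow (n : ℕ) : IsArtinianRing (R ⧸ (maximalIdeal R) ^ n) := by
  rcases Nat.eq_zero_or_pos n with rfl | hn
  · rw [pow_zero, Ideal.one_eq_top]
    have : Subsingleton (R ⧸ (⊤ : Ideal R)) := Ideal.Quotient.subsingleton_iff.mpr rfl
    infer_instance
  · apply IsLocalRing.quotient_artinian_of_mem_minimalPrimes_of_isLocalRing
    rw [Ideal.minimalPrimes, Set.mem_ofPred]
    refine ⟨⟨inferInstance, Ideal.pow_le_self hn.ne'⟩, ?_⟩
    rintro J ⟨hJ, hJ'⟩ -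
    exact (hJ.pow_le_iff hn.ne').mp hJ'

/-- A finitely generated module killed by a power of the maximal ideal has finite length. -/
theorem length_ne_top_of_pow_smul {M : Type*} [AddCommGroup M] [Module R M] [Module.Finite R M]
    (n : ℕ) (h : ∀ a ∈ (maximalIdeal R) ^ n, ∀ x : M, a • x = 0) : Module.length R M ≠ ⊤ := by
  have htor : Module.IsTorsionBySet R M ((maximalIdeal R ^ n : Ideal R) : Set R) :=
    fun x a => h a.1 a.2 x
  let _ := htor.module
  have : IsScalarTower R (R ⧸ (maximalIdeal R) ^ n) M := htor.isScalarTower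
  have := isArtinianRing_quotient_pow (R := R) n
  have : Module.Finite (R ⧸ (maximalIdeal R) ^ n) M := Module.Finite.of_restrictScalars_finite R _ M
  have : IsArtinian (R ⧸ (maximalIdeal R) ^ n) M := inferInstance
  have : IsArtinian R M := isArtinian_of_surjective_algebraMap (R := R ⧸ (maximalIdeal R) ^ n)
    Ideal.Quotient.mk_surjective
  exact Module.length_ne_top

end FiniteLength

variable {S : Type*} [CommRing S] {a b c : ℕ}

/-- regular sequence of length two, elementwise -/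
structure Reg2 (T : Type*) [AddCommGroup T] [Module S T] (F₀ F₁ : S) : Prop where
  r0 : ∀ x : T, F₀ • x = 0 → x = 0
  r1 : ∀ x y : T, F₁ • x = F₀ • y → ∃ z, x = F₀ • z

/-- regular sequence of length three, elementwise -/
structure Reg3 (T : Type*) [AddCommGroup T] [Module S T] (F₀ F₁ F₂ : S) : Prop
    extends Reg2 T F₀ F₁ where
  r2 : ∀ x y z : T, F₂ • x = F₀ • y + F₁ • z → ∃ u v, x = F₀ • u + F₁ • v

variable {T : Type*} [AddCommGroup T] [Module S T]

lemma Reg2.r0_pi {F₀ F₁ : S} (h : Reg2 T F₀ F₁) (n : ℕ) (x : Fin n → T) (hx : F₀ • x = 0) : x = 0 :=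
  funext fun i => h.r0 _ (congrFun hx i)

lemma Reg2.r1_pi {F₀ F₁ : S} (h : Reg2 T F₀ F₁) (n : ℕ) (x y : Fin n → T)
    (hx : F₁ • x = F₀ • y) : ∃ z, x = F₀ • z := by
  choose z hz using fun i => h.r1 (x i) (y i) (congrFun hx i)
  exact ⟨z, funext hz⟩

lemma Reg3.koszul {F₀ F₁ F₂ : S} (h : Reg3 T F₀ F₁ F₂) (t01 t02 t12 : T)
    (hc : F₂ • t01 - F₁ • t02 + F₀ • t12 = 0) :
    ∃ a0 a1 a2 : T, t01 = F₀ • a1 - F₁ • a0 ∧ t02 = F₀ • a2 - F₂ • a0 ∧
      t12 = F₁ • a2 - F₂ • a1 := by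
  obtain ⟨a1, a0', h01⟩ := h.r2 t01 (- t12) t02 (by
    rw [smul_neg]
    have : F₂ • t01 - (-(F₀ • t12) + F₁ • t02) = 0 := by rw [← hc]; abel
    exact sub_eq_zero.mp this)
  -- `t01 = F₀ a1 + F₁ a0'`
  have h1 : F₁ • (t02 - F₂ • a0') = F₀ • (F₂ • a1 + t12) := by
    have e1 : F₂ • t01 = F₀ • F₂ • a1 + F₁ • F₂ • a0' := by
      rw [h01, smul_add, smul_comm F₂ F₀, smul_comm F₂ F₁]
    rw [e1] at hc
    rw [smul_sub, smul_add]
    have e2 : F₁ • t02 - F₁ • F₂ • a0' - (F₀ • F₂ • a1 + F₀ • t12) = 0 := by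
      have : F₁ • t02 - F₁ • F₂ • a0' - (F₀ • F₂ • a1 + F₀ • t12) =
        -(F₀ • F₂ • a1 + F₁ • F₂ • a0' - F₁ • t02 + F₀ • t12) := by abel
      rw [this, hc, neg_zero]
    exact sub_eq_zero.mp e2
  obtain ⟨w, hw⟩ := h.r1 _ _ h1
  rw [hw, smul_comm] at h1
  have h2 : F₂ • a1 + t12 = F₁ • w := by
    have h3 : F₀ • (F₁ • w - (F₂ • a1 + t12)) = 0 := by
      rw [smul_sub, h1, sub_self]
    exact (sub_eq_zero.mp (h.r0 _ h3)).symm
  refine ⟨-a0', a1, w, ?_, ?_, ?_⟩
  · rw [h01, smul_neg, sub_neg_eq_add]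
  · rw [smul_neg, sub_neg_eq_add, ← hw]; abel
  · rw [← h2]; abel

variable (Φ : Matrix (Fin b) (Fin a) S) (Ψ : Matrix (Fin c) (Fin b) S)

/-- (i): if `f • id` on the kernel factors through `T`, then `f` kills the elements of the homology
which are killed by a regular sequence of length three. -/
theorem kill {F₀ F₁ F₂ : S} (h : Reg3 T F₀ F₁ F₂) (f : S)
    (τ : LinearMap.ker (mv Φ T) →ₗ[S] T) (σ : T →ₗ[S] LinearMap.ker (mv Φ T))
    (hστ : ∀ x, σ (τ x) = f • x) (x : Fin b → T) (y₀ y₁ y₂ : Fin a → T)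
    (h0 : mv Φ T y₀ = F₀ • x) (h1 : mv Φ T y₁ = F₁ • x) (h2 : mv Φ T y₂ = F₂ • x) :
    ∃ y, mv Φ T y = f • x := by
  let m01 : LinearMap.ker (mv Φ T) := ⟨F₀ • y₁ - F₁ • y₀, by
    rw [LinearMap.mem_ker, map_sub, map_smul, map_smul, h0, h1, smul_comm, sub_self]⟩
  let m02 : LinearMap.ker (mv Φ T) := ⟨F₀ • y₂ - F₂ • y₀, by
    rw [LinearMap.mem_ker, map_sub, map_smul, map_smul, h0, h2, smul_comm, sub_self]⟩
  let m12 : LinearMap.ker (mv Φ T) := ⟨F₁ • y₂ - F₂ • y₁, by
    rw [LinearMap.mem_ker, map_sub, map_smul, map_smul, h1, h2, smul_comm, sub_self]⟩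
  have hc : F₂ • m01 - F₁ • m02 + F₀ • m12 = 0 := by
    apply Subtype.ext
    change F₂ • (F₀ • y₁ - F₁ • y₀) - F₁ • (F₀ • y₂ - F₂ • y₀) + F₀ • (F₁ • y₂ - F₂ • y₁) = 0
    rw [smul_sub, smul_sub, smul_sub, smul_comm F₂ F₀, smul_comm F₂ F₁, smul_comm F₁ F₀]
    abel
  have hc' : F₂ • τ m01 - F₁ • τ m02 + F₀ • τ m12 = 0 := by
    rw [← map_smul, ← map_smul, ← map_smul, ← map_sub, ← map_add, hc, map_zero]
  obtain ⟨a0, a1, a2, e01, e02, e12⟩ := h.koszul _ _ _ hc'
  have k01 : f • m01 = F₀ • σ a1 - F₁ • σ a0 := by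
    rw [← hστ, e01, map_sub, map_smul, map_smul]
  -- corrected lifts
  have k01' : f • (F₀ • y₁ - F₁ • y₀) = F₀ • (σ a1).1 - F₁ • (σ a0).1 := congrArg Subtype.val k01
  have hkey : F₁ • (f • y₀ - (σ a0).1) = F₀ • (f • y₁ - (σ a1).1) := by
    rw [smul_sub, smul_comm f, smul_comm f] at k01'
    rw [smul_sub, smul_sub]
    have : F₁ • f • y₀ - F₁ • (σ a0).1 - (F₀ • f • y₁ - F₀ • (σ a1).1) =
      -((F₀ • f • y₁ - F₁ • f • y₀) - (F₀ • (σ a1).1 - F₁ • (σ a0).1)) := by abel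
    rw [← sub_eq_zero, this, k01', sub_self, neg_zero]
  obtain ⟨y, hy⟩ := h.toReg2.r1_pi _ _ _ hkey
  refine ⟨y, ?_⟩
  have h3 : F₀ • (mv Φ T y - f • x) = 0 := by
    rw [smul_sub, ← map_smul, ← hy, map_sub, map_smul, h0]
    have h4 : mv Φ T (σ a0).1 = 0 := (σ a0).2
    rw [h4, sub_zero, smul_comm, sub_self]
  exact sub_eq_zero.mp (h.toReg2.r0_pi _ _ h3)

/-- `M / (F, G) M` -/
abbrev QQ (F G : S) (M : Type*) [AddCommGroup M] [Module S M] :=
  M ⧸ (LinearMap.range (LinearMap.lsmul S M F) ⊔ LinearMap.range (LinearMap.lsmul S M G))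

/-- the bound: length of the `J`-torsion of `M/(F,G)M` -/
noncomputable def BB (J : Ideal S) (F G : S) (M : Type*) [AddCommGroup M] [Module S M] : ℕ∞ :=
  Module.length S (Submodule.torsionBySet S (QQ F G M) (J : Set S))

theorem BB_ne_top [IsLocalRing S] [IsNoetherianRing S] (n : ℕ) (F G : S) (M : Type*)
    [AddCommGroup M] [Module S M] [Module.Finite S M] :
    BB (maximalIdeal S ^ n) F G M ≠ ⊤ := by
  unfold BB
  refine length_ne_top_of_pow_smul n ?_
  rintro r hr ⟨x, hx⟩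
  apply Subtype.ext
  rw [Submodule.mem_torsionBySet_iff] at hx
  exact hx ⟨r, hr⟩

theorem BB_le_of_equiv {M M' : Type*} [AddCommGroup M] [Module S M] [AddCommGroup M'] [Module S M']
    (e : M ≃ₗ[S] M') (J : Ideal S) (F G : S) : BB J F G M ≤ BB J F G M' := by
  have hle : ∀ F : S, LinearMap.range (LinearMap.lsmul S M F) ≤
      Submodule.comap e.toLinearMap (LinearMap.range (LinearMap.lsmul S M' F)) := by
    rintro F _ ⟨x, rfl⟩
    exact ⟨e x, by simp⟩
  have hle' : ∀ F : S, LinearMap.range (LinearMap.lsmul S M' F) ≤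
      Submodule.map e.toLinearMap (LinearMap.range (LinearMap.lsmul S M F)) := by
    rintro F _ ⟨x, rfl⟩
    refine ⟨F • e.symm x, ⟨e.symm x, rfl⟩, ?_⟩
    simp
  let f : QQ F G M →ₗ[S] QQ F G M' := Submodule.mapQ _ _ e.toLinearMap (by
    refine sup_le ((hle F).trans ?_) ((hle G).trans ?_)
    · exact Submodule.comap_mono le_sup_left
    · exact Submodule.comap_mono le_sup_right)
  have hf : Function.Injective f := by
    rw [injective_iff_map_eq_zero]
    intro x hx
    obtain ⟨x, rfl⟩ := Submodule.Quotient.mk_surjective _ x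
    have hx' : (Submodule.Quotient.mk (e x) : QQ F G M') = 0 := hx
    rw [Submodule.Quotient.mk_eq_zero] at hx' ⊢
    have h1 := (sup_le_sup (hle' F) (hle' G)) hx'
    rw [← Submodule.map_sup] at h1
    obtain ⟨y, hy, hyx⟩ := h1
    have : y = x := e.injective hyx
    rw [← this]
    exact hy
  unfold BB
  refine Module.length_le_of_injective (f.restrict (p := Submodule.torsionBySet S (QQ F G M) (J : Set S))
    (q := Submodule.torsionBySet S (QQ F G M') (J : Set S)) ?_) ?_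
  · intro x hx
    rw [Submodule.mem_torsionBySet_iff] at hx ⊢
    intro r
    rw [← map_smul, hx r, map_zero]
  · intro x y hxy
    apply Subtype.ext
    apply hf
    exact congrArg Subtype.val hxy

/-- (ii): the length of the homology is bounded in terms of its kernel. -/
theorem length_H1_le_BB {F G : S} (h : Reg2 T F G) {J : Ideal S} (hF : F ∈ J) (hG : G ∈ J)
    (hJ : ∀ r ∈ J, ∀ z : H1 Φ Ψ T, r • z = 0) :
    Module.length S (H1 Φ Ψ T) ≤ BB J F G (LinearMap.ker (mv Φ T)) := by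
  have hJ' : ∀ r ∈ J, ∀ x : Fin b → T, mv Ψ T x = 0 → ∃ y, mv Φ T y = r • x := by
    intro r hr x hx
    have h1 := hJ r hr (Submodule.Quotient.mk ⟨x, hx⟩)
    rw [← Submodule.Quotient.mk_smul, Submodule.Quotient.mk_eq_zero] at h1
    obtain ⟨y, hy⟩ := h1
    exact ⟨y, hy⟩
  let Z : Submodule S ((Fin b → T) × (Fin a → T) × (Fin a → T)) :=
    { carrier := {x | mv Ψ T x.1 = 0 ∧ mv Φ T x.2.1 = F • x.1 ∧ mv Φ T x.2.2 = G • x.1}
      add_mem' := by
        rintro x y ⟨h1, h2, h3⟩ ⟨h4, h5, h6⟩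
        refine ⟨?_, ?_, ?_⟩
        · change mv Ψ T (x.1 + y.1) = 0
          rw [map_add, h1, h4, add_zero]
        · change mv Φ T (x.2.1 + y.2.1) = F • (x.1 + y.1)
          rw [map_add, h2, h5, smul_add]
        · change mv Φ T (x.2.2 + y.2.2) = G • (x.1 + y.1)
          rw [map_add, h3, h6, smul_add]
      zero_mem' := by
        refine ⟨map_zero _, ?_, ?_⟩
        · change mv Φ T 0 = F • (0 : Fin b → T)
          rw [map_zero, smul_zero]
        · change mv Φ T 0 = G • (0 : Fin b → T)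
          rw [map_zero, smul_zero]
      smul_mem' := by
        rintro r x ⟨h1, h2, h3⟩
        refine ⟨?_, ?_, ?_⟩
        · change mv Ψ T (r • x.1) = 0
          rw [map_smul, h1, smul_zero]
        · change mv Φ T (r • x.2.1) = F • (r • x.1)
          rw [map_smul, h2, smul_comm]
        · change mv Φ T (r • x.2.2) = G • (r • x.1)
          rw [map_smul, h3, smul_comm] }
  let ζ0 : Z →ₗ[S] LinearMap.ker (mv Ψ T) :=
    LinearMap.codRestrict _ ((LinearMap.fst S (Fin b → T) ((Fin a → T) × (Fin a → T))).comp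
      Z.subtype) (fun z => z.2.1)
  let ζ : Z →ₗ[S] H1 Φ Ψ T := (Submodule.mkQ _).comp ζ0
  let L1 : ((Fin b → T) × (Fin a → T) × (Fin a → T)) →ₗ[S] (Fin a → T) :=
    (LinearMap.fst S (Fin a → T) (Fin a → T)).comp
      (LinearMap.snd S (Fin b → T) ((Fin a → T) × (Fin a → T)))
  let L2 : ((Fin b → T) × (Fin a → T) × (Fin a → T)) →ₗ[S] (Fin a → T) :=
    (LinearMap.snd S (Fin a → T) (Fin a → T)).comp
      (LinearMap.snd S (Fin b → T) ((Fin a → T) × (Fin a → T)))
  let θ0 : Z →ₗ[S] LinearMap.ker (mv Φ T) :=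
    LinearMap.codRestrict _ ((G • L1 - F • L2).comp Z.subtype)
      (fun z => by
        change mv Φ T (G • z.1.2.1 - F • z.1.2.2) = 0
        rw [map_sub, map_smul, map_smul, z.2.2.1, z.2.2.2, smul_comm, sub_self])
  have hθ0 : ∀ z : Z, (θ0 z).1 = G • z.1.2.1 - F • z.1.2.2 := fun z => rfl
  let θ : Z →ₗ[S] QQ F G (LinearMap.ker (mv Φ T)) := (Submodule.mkQ _).comp θ0
  have hζ : Function.Surjective ζ := by
    intro x
    obtain ⟨⟨x, hx⟩, rfl⟩ := Submodule.Quotient.mk_surjective _ x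
    obtain ⟨yF, hyF⟩ := hJ' F hF x hx
    obtain ⟨yG, hyG⟩ := hJ' G hG x hx
    exact ⟨⟨(x, yF, yG), ⟨hx, hyF, hyG⟩⟩, rfl⟩
  have hker : LinearMap.ker θ ≤ LinearMap.ker ζ := by
    rintro ⟨⟨x, yF, yG⟩, hx, hyF, hyG⟩ hz
    rw [LinearMap.mem_ker] at hz ⊢
    change Submodule.Quotient.mk _ = _ at hz
    rw [Submodule.Quotient.mk_eq_zero, Submodule.mem_sup] at hz
    obtain ⟨_, ⟨m2, rfl⟩, _, ⟨m1, rfl⟩, hm⟩ := hz
    have hm' : F • m2.1 + G • m1.1 = G • yF - F • yG := by
      have := congrArg Subtype.val hm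
      rw [hθ0] at this
      exact this
    change Submodule.Quotient.mk _ = _
    rw [Submodule.Quotient.mk_eq_zero]
    have hkey : G • (yF - m1.1) = F • (yG + m2.1) := by
      rw [smul_sub, smul_add]
      have : G • yF - G • m1.1 - (F • yG + F • m2.1) =
        (G • yF - F • yG) - (F • m2.1 + G • m1.1) := by abel
      rw [← sub_eq_zero, this, hm', sub_self]
    obtain ⟨y, hy⟩ := h.r1_pi _ _ _ hkey
    refine ⟨y, ?_⟩
    have h3 : F • (mv Φ T y - x) = 0 := by
      rw [smul_sub, ← map_smul, ← hy, map_sub]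
      have h4 : mv Φ T m1.1 = 0 := m1.2
      change mv Φ T yF = F • x at hyF
      rw [h4, sub_zero, hyF, sub_self]
    exact sub_eq_zero.mp (h.r0_pi _ _ h3)
  have htor : LinearMap.range θ ≤ Submodule.torsionBySet S (QQ F G (LinearMap.ker (mv Φ T))) (J : Set S) := by
    rintro _ ⟨⟨⟨x, yF, yG⟩, hx, hyF, hyG⟩, rfl⟩
    rw [Submodule.mem_torsionBySet_iff]
    rintro ⟨r, hr⟩
    change r • θ _ = 0
    rw [← map_smul]
    change Submodule.Quotient.mk _ = _
    rw [Submodule.Quotient.mk_eq_zero, Submodule.mem_sup]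
    obtain ⟨y, hy⟩ := hJ' r hr x hx
    change mv Φ T yF = F • x at hyF
    change mv Φ T yG = G • x at hyG
    let mF : LinearMap.ker (mv Φ T) := ⟨r • yF - F • y, by
      rw [LinearMap.mem_ker, map_sub, map_smul, map_smul, hyF, hy, smul_comm, sub_self]⟩
    let mG : LinearMap.ker (mv Φ T) := ⟨F • (0 : Fin a → T) + (G • y - r • yG), by
      rw [LinearMap.mem_ker, smul_zero, zero_add, map_sub, map_smul, map_smul, hyG, hy, smul_comm,
        sub_self]⟩
    refine ⟨_, ⟨mG, rfl⟩, _, ⟨mF, rfl⟩, ?_⟩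
    apply Subtype.ext
    rw [hθ0]
    change F • (F • (0 : Fin a → T) + (G • y - r • yG)) + G • (r • yF - F • y) =
      G • (r • yF) - F • (r • yG)
    rw [smul_zero, zero_add, smul_sub, smul_sub, smul_comm F G y]
    abel
  have h1 : Module.length S (H1 Φ Ψ T) = Module.length S (Z ⧸ LinearMap.ker ζ) :=
    (LinearEquiv.length_eq (ζ.quotKerEquivOfSurjective hζ)).symm
  have h2 : Module.length S (Z ⧸ LinearMap.ker ζ) ≤ Module.length S (Z ⧸ LinearMap.ker θ) :=
    Module.length_le_of_surjective (Submodule.factor hker) (Submodule.factor_surjective hker)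
  have h3 : Module.length S (Z ⧸ LinearMap.ker θ) = Module.length S (LinearMap.range θ) :=
    LinearEquiv.length_eq θ.quotKerEquivRange
  rw [h1]
  refine h2.trans ?_
  rw [h3]
  exact Module.length_le_of_injective (Submodule.inclusion htor) (Submodule.inclusion_injective htor)

end Groth.Agent.Lefpen.H715.Bound
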