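import Groth.Agent.Lefpen.H715.Local
import Groth.Agent.Lefpen.H718.Grade

/-!
The local theorem on the cone: transfer between the graded ring and its local ring at the origin.
-/

set_option autoImplicit false
universe u

namespace Groth.Agent.Lefpen.H715.Cone

open IsLocalRing MvPolynomial Groth.Agent.Lefpen.H715.RegA
open Groth.Agent.Lefpen.H718.Reg Groth.Agent.Lefpen.H718.ConeCM Groth.Agent.Lefpen.H718.Grade

section general

variable {S : Type*} [CommRing S] [IsLocalRing S] [IsNoetherianRing S] {Q : Type*} [Field Q]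
  [Algebra S Q] {ι : Type*} (x : ι → S) (hx : maximalIdeal S ≤ Ideal.span (Set.range x))

include hx

theorem exists_pow_le_of_forall (J : Ideal S) (h : ∀ β, ∃ R : ℕ, x β ^ R ∈ J) :
    ∃ N : ℕ, maximalIdeal S ^ N ≤ J := by
  refine Ideal.exists_pow_le_of_le_radical_of_fg (hx.trans ?_) (IsNoetherian.noetherian _)
  rw [Ideal.span_le]
  rintro _ ⟨β, rfl⟩
  exact h β

theorem leU_of_pow {α β : Type*} (v : α → Q) (u : β → Q)
    (h : ∀ b, ∃ R : ℕ, ∀ k, x b ^ R • v k ∈ Submodule.span S (Set.range u)) : LeU S v u := by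
  let J : Ideal S :=
    { carrier := {s | ∀ k, s • v k ∈ Submodule.span S (Set.range u)}
      add_mem' := fun {s t} hs ht k => by rw [add_smul]; exact add_mem (hs k) (ht k)
      zero_mem' := fun k => by rw [zero_smul]; exact zero_mem _
      smul_mem' := fun c s hs k => by
        rw [smul_eq_mul, mul_smul]; exact Submodule.smul_mem _ _ (hs k) }
  obtain ⟨N, hN⟩ := exists_pow_le_of_forall x hx J h
  exact ⟨N, fun s hs k => hN hs k⟩

theorem invU_of_pow {α : Type*} (u : α → Q)
    (h : ∀ b, ∃ R : ℕ, x b ^ R ∈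
      Ideal.span {s : S | ∃ i, u i ≠ 0 ∧ ∀ k, ∃ c : S, s • u k = c • u i}) : InvU S u :=
  exists_pow_le_of_forall x hx _ h

end general

section transfer

variable {R₀ B₀ S Q : Type*} [CommRing R₀] [CommRing B₀] [CommRing S] [Field Q]
  [Algebra R₀ S] [Algebra S Q] [Algebra B₀ Q]
  (π : R₀ →+* B₀) (hπ : Function.Surjective π)
  (hc : ∀ r, algebraMap S Q (algebraMap R₀ S r) = algebraMap B₀ Q (π r))

include hπ hc

theorem span_le_span {β : Type*} (u : β → Q) {z : Q} (hz : z ∈ Submodule.span B₀ (Set.range u)) :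
    z ∈ Submodule.span S (Set.range u) := by
  induction hz using Submodule.span_induction with
  | mem z hz => exact Submodule.subset_span hz
  | zero => exact zero_mem _
  | add z z' _ _ h1 h2 => exact add_mem h1 h2
  | smul b z _ h1 =>
    obtain ⟨r, rfl⟩ := hπ b
    have : π r • z = algebraMap R₀ S r • z := by
      rw [Algebra.smul_def, Algebra.smul_def, hc]
    rw [this]
    exact Submodule.smul_mem _ _ h1

theorem mem_span_of_mem {α : Type*} (u : α → Q) (hu : ∃ i, u i ≠ 0) (r : R₀)
    (hr : π r ∈ Ideal.span {s : B₀ | ∃ i, u i ≠ 0 ∧ ∀ k, ∃ c : B₀, s • u k = c • u i}) :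
    algebraMap R₀ S r ∈
      Ideal.span {s : S | ∃ i, u i ≠ 0 ∧ ∀ k, ∃ c : S, s • u k = c • u i} := by
  set J := Ideal.span {s : S | ∃ i, u i ≠ 0 ∧ ∀ k, ∃ c : S, s • u k = c • u i} with hJ
  have hsm : ∀ (r : R₀) (z : Q), π r • z = algebraMap R₀ S r • z := by
    intro r z
    rw [Algebra.smul_def, Algebra.smul_def, hc]
  have hker : RingHom.ker π ≤ J.comap (algebraMap R₀ S) := by
    intro t ht
    obtain ⟨i, hi⟩ := hu
    refine Ideal.subset_span ⟨i, hi, fun k => ⟨0, ?_⟩⟩
    rw [← hsm, RingHom.mem_ker.mp ht, zero_smul, zero_smul]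
  have hle : Ideal.span {s : B₀ | ∃ i, u i ≠ 0 ∧ ∀ k, ∃ c : B₀, s • u k = c • u i} ≤
      (J.comap (algebraMap R₀ S)).map π := by
    rw [Ideal.span_le]
    rintro s ⟨i, hi, hs⟩
    obtain ⟨t, rfl⟩ := hπ s
    refine Ideal.mem_map_of_mem π ?_
    refine Ideal.subset_span ⟨i, hi, fun k => ?_⟩
    obtain ⟨c, hc'⟩ := hs k
    obtain ⟨c, rfl⟩ := hπ c
    exact ⟨algebraMap R₀ S c, by rw [← hsm, ← hsm, hc']⟩
  have h1 := hle hr
  have h2 : r ∈ ((J.comap (algebraMap R₀ S)).map π).comap π := h1
  rw [Ideal.comap_map_of_surjective' π hπ, sup_eq_left.mpr hker] at h2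
  exact h2

end transfer

section descent

variable {k : Type u} [Field k] {N d : ℕ} (g : Fin d → MvPolynomial (Fin (N + 1)) k)
  {a : Fin d → ℕ} (hh : ∀ i, (g i).IsHomogeneous (a i)) [IsDomain (A g)]
  [hp : (irr g).IsPrime]
  {S Q A' : Type*} [CommRing S] [IsLocalRing S] [CommRing A'] [IsLocalRing A'] [Field Q]
  [Algebra S A'] [Algebra S Q] [Algebra (A g) Q] [Algebra (A g) A'] [Algebra A' Q]
  [IsScalarTower (A g) A' Q] [IsScalarTower S A' Q] [IsFractionRing (A g) Q]
  [IsLocalization.AtPrime A' (irr g)]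

include hh

omit [IsDomain (A g)] hp in
/-- one coefficient of a product with a homogeneous element -/
theorem coeff_mul_homog {D : ℕ} {y : A g} (hy : Homog g hh D y) (b : A g) (i : ℕ) :
    (delta g hh (b * y)).coeff i = if D ≤ i then (delta g hh b).coeff (i - D) * y else 0 := by
  rw [map_mul, hy, mul_comm (Polynomial.C y), ← mul_assoc, Polynomial.coeff_mul_C,
    Polynomial.coeff_mul_X_pow']
  split_ifs
  · rfl
  · rw [zero_mul]

/-- the graded descent -/
theorem descent {r : ℕ} (m : Fin r → ℕ) (u : Fin r → A g) (hu : ∀ l, Homog g hh (m l) (u l))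
    (k₀ : Fin r) (hk₀ : u k₀ ≠ 0) (x : Fin (N + 1) → S)
    (hx : ∀ β, algebraMap S A' (x β) = algebraMap (A g) A' (mk g (X β)))
    (hxm : ∀ β, x β ∈ maximalIdeal S)
    (w : Q) (hw : w ≠ 0)
    (h1 : ∀ l, ∃ y : A', algebraMap (A g) Q (u l) = algebraMap A' Q y * w)
    (h2 : ∀ z : Q, (∀ l, ∃ y : A', algebraMap A' Q y = z * algebraMap (A g) Q (u l)) →
      ∃ y : A', algebraMap A' Q y = z * w)
    (h3 : LeU S (fun _ : Unit => w) (fun l => algebraMap (A g) Q (u l))) :
    ∃ (D : ℕ) (f : A g) (v : Fin r → A g), Homog g hh D f ∧ f ≠ 0 ∧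
      (∀ l, f * u l = v l * u k₀) ∧
      (∀ l, v l = 0 ∨ (m k₀ ≤ D + m l ∧ Homog g hh (D + m l - m k₀) (v l))) ∧
      ∀ β, ∃ R : ℕ, mk g (X β) ^ R ∈ Ideal.span (Set.range v) := by
  have hinjQ : Function.Injective (algebraMap (A g) Q) := IsFractionRing.injective (A g) Q
  have htow : ∀ y : A g, algebraMap A' Q (algebraMap (A g) A' y) = algebraMap (A g) Q y := fun y =>
    (IsScalarTower.algebraMap_apply (A g) A' Q y).symm
  choose y hy using h1
  obtain ⟨t, ht⟩ := IsLocalization.exist_integer_multiples_of_finite (irr g).primeCompl y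
  choose b hb using ht
  -- `hb l : algebraMap (b l) = t • y l`
  have hbQ : ∀ l, algebraMap (A g) Q (b l) = algebraMap (A g) Q t.1 * algebraMap A' Q (y l) := by
    intro l
    rw [← htow, hb l, ← htow, ← map_mul]
    congr 1
    rw [← Algebra.smul_def]
  have hrel : ∀ l, b l * u k₀ = b k₀ * u l := by
    intro l
    apply hinjQ
    rw [map_mul, map_mul, hbQ, hbQ, hy, hy]
    ring
  -- components
  let P := delta g hh (b k₀)
  let v : ℕ → Fin r → A g := fun i l => if m k₀ ≤ i + m l then
    (delta g hh (b l)).coeff (i + m l - m k₀) else 0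
  have hv : ∀ i l, P.coeff i * u l = v i l * u k₀ := by
    intro i l
    have e1 : (delta g hh (b l * u k₀)).coeff (i + m l) =
        (delta g hh (b k₀ * u l)).coeff (i + m l) := by rw [hrel l]
    rw [coeff_mul_homog g hh (hu k₀), coeff_mul_homog g hh (hu l), if_pos (Nat.le_add_left _ _),
      Nat.add_sub_cancel] at e1
    rw [← e1]
    simp only [v]
    split_ifs
    · rfl
    · rw [zero_mul]
  have huk : algebraMap (A g) Q (u k₀) ≠ 0 := by
    rw [Ne, map_eq_zero_iff _ hinjQ]
    exact hk₀
  -- the elements `z_i w` of the local ring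
  have hz : ∀ i, ∃ α : A', algebraMap A' Q α =
      algebraMap (A g) Q (P.coeff i) * (algebraMap (A g) Q (u k₀))⁻¹ * w := by
    intro i
    refine h2 _ fun l => ⟨algebraMap (A g) A' (v i l), ?_⟩
    rw [htow]
    have e1 := congrArg (algebraMap (A g) Q) (hv i l)
    rw [map_mul, map_mul] at e1
    calc algebraMap (A g) Q (v i l)
        = algebraMap (A g) Q (v i l) * algebraMap (A g) Q (u k₀) *
            (algebraMap (A g) Q (u k₀))⁻¹ := by
          rw [mul_assoc, mul_inv_cancel₀ huk, mul_one]
      _ = _ := by rw [← e1]; ring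
  choose α hα using hz
  have hinjA : Function.Injective (algebraMap A' Q) := by
    rw [injective_iff_map_eq_zero]
    intro z hz
    obtain ⟨⟨c, s⟩, hcs⟩ := IsLocalization.surj (irr g).primeCompl z
    have e1 := congrArg (algebraMap A' Q) hcs
    rw [map_mul, hz, zero_mul, htow] at e1
    have e2 : c = 0 := hinjQ (by rw [map_zero]; exact e1.symm)
    rw [e2, map_zero] at hcs
    exact (IsLocalization.map_units A' s).mul_left_eq_zero.mp hcs
  have hsum : ∑ i ∈ Finset.range (P.natDegree + 1), α i = algebraMap (A g) A' t.1 := by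
    apply hinjA
    rw [map_sum, htow]
    have e1 : ∑ i ∈ Finset.range (P.natDegree + 1), P.coeff i = b k₀ := by
      have e2 := eval_delta g hh (b k₀)
      rw [Polynomial.eval_eq_sum_range] at e2
      simpa using e2
    have e3 : ∑ i ∈ Finset.range (P.natDegree + 1), algebraMap A' Q (α i) =
        algebraMap (A g) Q (b k₀) * (algebraMap (A g) Q (u k₀))⁻¹ * w := by
      rw [← e1, map_sum, Finset.sum_mul, Finset.sum_mul]
      exact Finset.sum_congr rfl fun i _ => hα i
    rw [e3, hbQ]
    have e4 := hy k₀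
    calc _ = algebraMap (A g) Q t.1 * (algebraMap A' Q (y k₀) * w) *
          (algebraMap (A g) Q (u k₀))⁻¹ := by ring
      _ = _ := by rw [← e4, mul_assoc, mul_inv_cancel₀ huk, mul_one]
  obtain ⟨i, hi⟩ : ∃ i, IsUnit (α i) := by
    by_contra hcon
    push Not at hcon
    have h4 : ∑ i ∈ Finset.range (P.natDegree + 1), α i ∈ maximalIdeal A' :=
      Ideal.sum_mem _ fun i _ => (mem_maximalIdeal _).mpr (hcon i)
    rw [hsum] at h4
    exact (mem_maximalIdeal _).mp h4 (IsLocalization.map_units A' t)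
  have hcoeff0 : P.coeff i ≠ 0 := by
    intro h0
    have e1 := hα i
    rw [h0, map_zero, zero_mul, zero_mul] at e1
    have e2 : α i = 0 := hinjA (by rw [e1, map_zero])
    rw [e2] at hi
    exact not_isUnit_zero hi
  refine ⟨i, P.coeff i, v i, homog_coeff g hh (b k₀) i, hcoeff0, hv i, fun l => ?_, fun β => ?_⟩
  · by_cases hle : m k₀ ≤ i + m l
    · right
      refine ⟨hle, ?_⟩
      simp only [v, if_pos hle]
      exact homog_coeff g hh (b l) _
    · left
      simp only [v, if_neg hle]
  · obtain ⟨M, hM⟩ := h3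
    have h4 : ∀ z ∈ Submodule.span S (Set.range fun l => algebraMap (A g) Q (u l)),
        ∃ z' ∈ Ideal.span (Set.range fun l => algebraMap (A g) A' (v i l)),
          algebraMap A' Q z' =
            algebraMap (A g) Q (P.coeff i) * (algebraMap (A g) Q (u k₀))⁻¹ * z := by
      intro z hz
      induction hz using Submodule.span_induction with
      | mem z hz =>
        obtain ⟨l, rfl⟩ := hz
        refine ⟨_, Ideal.subset_span ⟨l, rfl⟩, ?_⟩
        simp only
        rw [htow]
        have e1 := congrArg (algebraMap (A g) Q) (hv i l)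
        rw [map_mul, map_mul] at e1
        calc algebraMap (A g) Q (v i l)
            = algebraMap (A g) Q (v i l) * algebraMap (A g) Q (u k₀) *
                (algebraMap (A g) Q (u k₀))⁻¹ := by
              rw [mul_assoc, mul_inv_cancel₀ huk, mul_one]
          _ = _ := by rw [← e1]; ring
      | zero => exact ⟨0, zero_mem _, by rw [map_zero, mul_zero]⟩
      | add z z' _ _ h5 h6 =>
        obtain ⟨c, hc, hc'⟩ := h5
        obtain ⟨e, he, he'⟩ := h6
        exact ⟨c + e, add_mem hc he, by rw [map_add, hc', he', mul_add]⟩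
      | smul s z _ h5 =>
        obtain ⟨c, hc, hc'⟩ := h5
        refine ⟨algebraMap S A' s * c, Ideal.mul_mem_left _ _ hc, ?_⟩
        rw [map_mul, hc', Algebra.smul_def, IsScalarTower.algebraMap_apply S A' Q]
        ring
    obtain ⟨z', hz', hz''⟩ := h4 _ (hM (x β ^ M) (Ideal.pow_mem_pow (hxm β) M) ())
    have h5 : z' = algebraMap (A g) A' (mk g (X β)) ^ M * α i := by
      apply hinjA
      rw [hz'', map_mul, hα, map_pow, ← hx β, ← IsScalarTower.algebraMap_apply S A' Q,
        Algebra.smul_def, map_pow]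
      ring
    have h6 : algebraMap (A g) A' (mk g (X β) ^ M) ∈
        (Ideal.span (Set.range (v i))).map (algebraMap (A g) A') := by
      rw [Ideal.map_span, ← Set.range_comp]
      obtain ⟨c, hc⟩ := hi.exists_right_inv
      have h7 : algebraMap (A g) A' (mk g (X β) ^ M) = c * z' := by
        rw [h5, map_pow]
        calc _ = algebraMap (A g) A' (mk g (X β)) ^ M * (α i * c) := by rw [hc, mul_one]
          _ = _ := by ring
      rw [h7]
      exact Ideal.mul_mem_left _ _ hz'
    rw [IsLocalization.algebraMap_mem_map_algebraMap_iff (irr g).primeCompl] at h6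
    obtain ⟨t', ht', h7⟩ := h6
    refine ⟨M, ?_⟩
    -- degree `M` component of `t' * x_β^M`
    have hxh : Homog g hh M (mk g (X β) ^ M) := by
      have h8 := (homog_mk g hh (isHomogeneous_X k β)).pow g hh M
      rwa [mul_one] at h8
    have h8 : (delta g hh (t' * mk g (X β) ^ M)).coeff M = (delta g hh t').coeff 0 * mk g (X β) ^ M := by
      rw [coeff_mul_homog g hh hxh, if_pos le_rfl, Nat.sub_self]
    have h9 : ∀ z ∈ Ideal.span (Set.range (v i)), (delta g hh z).coeff M ∈
        Ideal.span (Set.range (v i)) := by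
      intro z hz
      obtain ⟨c, rfl⟩ := (Ideal.mem_span_range_iff_exists_fun).mp hz
      rw [map_sum, Polynomial.finsetSum_coeff]
      refine Ideal.sum_mem _ fun l _ => ?_
      by_cases hle : m k₀ ≤ i + m l
      · have h10 : Homog g hh (i + m l - m k₀) (v i l) := by
          simp only [v, if_pos hle]
          exact homog_coeff g hh (b l) _
        rw [coeff_mul_homog g hh h10]
        split_ifs
        · exact Ideal.mul_mem_left _ _ (Ideal.subset_span ⟨l, rfl⟩)
        · exact zero_mem _
      · have h10 : v i l = 0 := by simp only [v, if_neg hle]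
        rw [h10, mul_zero, map_zero, Polynomial.coeff_zero]
        exact zero_mem _
    have h10 := h9 _ h7
    rw [h8] at h10
    obtain ⟨c, hc⟩ := (delta_coeff_zero_unit g hh t' ht').exists_left_inv
    have h11 := Ideal.mul_mem_left (Ideal.span (Set.range (v i))) c h10
    rwa [← mul_assoc, hc, one_mul] at h11

end descent

end Groth.Agent.Lefpen.H715.Cone
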