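import Groth.Agent.Lefpen.H715.RegSeq

/-!
Three-term sequences of matrices, and the length of their homology over thickenings.
-/

set_option autoImplicit false
universe u

namespace Groth.Agent.Lefpen.H715.Cplx

open Groth.Agent.Lefpen.H715.LiftFree Groth.Agent.Lefpen.H715.RegSeq Groth.Agent.Localalg.Lech

variable {S : Type*} [CommRing S]

section mv

variable {a b c : ℕ}

/-- the action of a matrix on `T^a` -/
def mv (Φ : Matrix (Fin b) (Fin a) S) (T : Type*) [AddCommGroup T] [Module S T] :
    (Fin a → T) →ₗ[S] (Fin b → T) :=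
  LinearMap.pi (fun i => ∑ j, Φ i j • LinearMap.proj j)

lemma mv_apply (Φ : Matrix (Fin b) (Fin a) S) (T : Type*) [AddCommGroup T] [Module S T]
    (x : Fin a → T) (i : Fin b) : mv Φ T x i = ∑ j, Φ i j • x j := by
  simp [mv]

lemma mv_mk (I : Ideal S) (Φ : Matrix (Fin b) (Fin a) S) (x : Fin a → S) (i : Fin b) :
    mv Φ (S ⧸ I) (fun j => Submodule.Quotient.mk (x j)) i =
      Submodule.Quotient.mk (∑ j, Φ i j * x j) := by
  rw [mv_apply]
  exact (map_sum (Submodule.mkQ I) (fun j => Φ i j * x j) Finset.univ).symm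

lemma mv_mv (Ψ : Matrix (Fin c) (Fin b) S) (Φ : Matrix (Fin b) (Fin a) S) (T : Type*)
    [AddCommGroup T] [Module S T] (x : Fin a → T) : mv Ψ T (mv Φ T x) = mv (Ψ * Φ) T x := by
  funext i
  simp only [mv_apply, Matrix.mul_apply, Finset.smul_sum, Finset.sum_smul, smul_smul]
  rw [Finset.sum_comm]

lemma mv_natural (Φ : Matrix (Fin b) (Fin a) S) {T T' : Type*}
    [AddCommGroup T] [Module S T] [AddCommGroup T'] [Module S T'] (f : T →ₗ[S] T') (x : Fin a → T) :
    mv Φ T' (fun j => f (x j)) = fun i => f (mv Φ T x i) := by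
  funext i
  simp only [mv_apply, map_sum, map_smul]

lemma mv_eq_zero {Φ : Matrix (Fin b) (Fin a) S} {T : Type*} [AddCommGroup T] [Module S T]
    (h : ∀ i j, ∀ x : T, Φ i j • x = 0) (x : Fin a → T) : mv Φ T x = 0 := by
  funext i
  rw [mv_apply, Pi.zero_apply]
  exact Finset.sum_eq_zero fun j _ => h i j _

/-- the homology at the middle of `T^a → T^b → T^c` -/
abbrev H1 (Φ : Matrix (Fin b) (Fin a) S) (Ψ : Matrix (Fin c) (Fin b) S) (T : Type*)
    [AddCommGroup T] [Module S T] :=
  LinearMap.ker (mv Ψ T) ⧸ (LinearMap.range (mv Φ T)).submoduleOf (LinearMap.ker (mv Ψ T))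

variable (Φ : Matrix (Fin b) (Fin a) S) (Ψ : Matrix (Fin c) (Fin b) S)
  {T₁ T₂ T₃ : Type*} [AddCommGroup T₁] [Module S T₁] [AddCommGroup T₂] [Module S T₂]
  [AddCommGroup T₃] [Module S T₃]

/-- functoriality of the kernel -/
def kerMap (f : T₁ →ₗ[S] T₂) : LinearMap.ker (mv Ψ T₁) →ₗ[S] LinearMap.ker (mv Ψ T₂) :=
  (f.compLeft (Fin b)).restrict (fun x hx => by
    rw [LinearMap.mem_ker] at hx ⊢
    change mv Ψ T₂ (fun j => f (x j)) = 0
    rw [mv_natural, hx]
    funext i
    exact map_zero f)

lemma kerMap_apply (f : T₁ →ₗ[S] T₂) (x : LinearMap.ker (mv Ψ T₁)) (j : Fin b) :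
    (kerMap Ψ f x).1 j = f (x.1 j) := rfl

/-- functoriality of the homology -/
def H1map (f : T₁ →ₗ[S] T₂) : H1 Φ Ψ T₁ →ₗ[S] H1 Φ Ψ T₂ :=
  Submodule.mapQ _ _ (kerMap Ψ f) (by
    rintro x ⟨y, hy⟩
    refine ⟨fun j => f (y j), ?_⟩
    rw [mv_natural, hy]
    rfl)

theorem length_le_of_exact {A B C : Type*} [AddCommGroup A] [Module S A] [AddCommGroup B]
    [Module S B] [AddCommGroup C] [Module S C] (u : A →ₗ[S] B) (v : B →ₗ[S] C)
    (h : Function.Exact u v) : Module.length S B ≤ Module.length S A + Module.length S C := by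
  have h1 := Module.length_eq_add_of_exact (LinearMap.range u).subtype v.rangeRestrict
    (Submodule.subtype_injective _) (LinearMap.surjective_rangeRestrict _) (by
      intro x
      constructor
      · intro hx
        have hx' : v x = 0 := congrArg Subtype.val hx
        obtain ⟨y, rfl⟩ := (h x).mp hx'
        exact ⟨⟨_, ⟨y, rfl⟩⟩, rfl⟩
      · rintro ⟨⟨_, ⟨y, rfl⟩⟩, rfl⟩
        apply Subtype.ext
        exact h.apply_apply_eq_zero y)
  rw [h1]
  exact add_le_add (Module.length_le_of_surjective _ (LinearMap.surjective_rangeRestrict _))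
    (Module.length_le_of_injective (LinearMap.range v).subtype (Submodule.subtype_injective _))

theorem length_H1_le (f : T₁ →ₗ[S] T₂) (g : T₂ →ₗ[S] T₃) (hf : Function.Injective f)
    (hfg : Function.Exact f g) (hg : Function.Surjective g)
    (h0 : ∀ x : Fin a → T₂, mv Ψ T₂ (mv Φ T₂ x) = 0) :
    Module.length S (H1 Φ Ψ T₂) ≤ Module.length S (H1 Φ Ψ T₁) + Module.length S (H1 Φ Ψ T₃) := by
  refine length_le_of_exact (H1map Φ Ψ f) (H1map Φ Ψ g) ?_
  intro z
  obtain ⟨z, rfl⟩ := Submodule.Quotient.mk_surjective _ z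
  change (Submodule.Quotient.mk (kerMap Ψ g z) : H1 Φ Ψ T₃) = 0 ↔ _
  rw [Submodule.Quotient.mk_eq_zero]
  constructor
  · rintro ⟨y3, hy3⟩
    choose y2 hy2 using fun j => hg (y3 j)
    have h1 : ∀ j, g (z.1 j - mv Φ T₂ y2 j) = 0 := by
      intro j
      rw [map_sub]
      have : (fun i => g (mv Φ T₂ y2 i)) = mv Φ T₃ y3 := by
        rw [← mv_natural]
        congr 1
        exact funext hy2
      have h2 := congrFun this j
      rw [h2, hy3]
      exact sub_self _
    choose w hw using fun j => (hfg _).mp (h1 j)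
    have hw' : (fun j => f (w j)) = z.1 - mv Φ T₂ y2 := funext hw
    have hΨw : mv Ψ T₁ w = 0 := by
      funext i
      apply hf
      have h3 : (fun i => f (mv Ψ T₁ w i)) = 0 := by
        rw [← mv_natural, hw', map_sub, h0, sub_zero]
        exact z.2
      rw [Pi.zero_apply, map_zero]
      exact congrFun h3 i
    refine ⟨Submodule.Quotient.mk ⟨w, hΨw⟩, ?_⟩
    change (Submodule.Quotient.mk (kerMap Ψ f ⟨w, hΨw⟩) : H1 Φ Ψ T₂) = _
    rw [Submodule.Quotient.eq]
    refine ⟨-y2, ?_⟩
    rw [map_neg]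
    change _ = (fun j => f (w j)) - z.1
    rw [hw']
    abel
  · rintro ⟨w, hw⟩
    obtain ⟨w, rfl⟩ := Submodule.Quotient.mk_surjective _ w
    change (Submodule.Quotient.mk (kerMap Ψ f w) : H1 Φ Ψ T₂) = _ at hw
    rw [Submodule.Quotient.eq] at hw
    obtain ⟨y, hy⟩ := hw
    refine ⟨-(fun j => g (y j)), ?_⟩
    rw [map_neg, mv_natural, hy]
    funext j
    change - g (f (w.1 j) - z.1 j) = g (z.1 j)
    rw [map_sub, hfg.apply_apply_eq_zero, zero_sub, neg_neg]

end mv

section thick

variable {a b c : ℕ} {ι : Type*} [Fintype ι] [DecidableEq ι]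

lemma aa_univ_eq (G : ι → S) (j : ι) :
    aa G Finset.univ = Ideal.span {G j} ⊔ aa G (Finset.univ.erase j) := by
  conv_lhs => rw [← Finset.insert_erase (Finset.mem_univ j)]
  exact aa_insert G _ j

lemma aa_pw_update (G : ι → S) (e : ι → ℕ) (j : ι) (n : ℕ) :
    aa (pw G (Function.update e j n)) Finset.univ =
      Ideal.span {G j ^ n} ⊔ aa (pw G e) (Finset.univ.erase j) := by
  rw [aa_univ_eq _ j]
  congr 1
  · unfold pw
    rw [Function.update_self]
  · unfold aa
    congr 1
    apply Set.image_congr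
    intro i hi
    have hij : i ≠ j := by simpa using hi
    unfold pw
    rw [Function.update_of_ne hij]

/-- one step -/
theorem length_H1_step (G : ι → S) (hG : HReg G) (Φ : Matrix (Fin b) (Fin a) S)
    (Ψ : Matrix (Fin c) (Fin b) S) (e : ι → ℕ) (he : ∀ i, e i ≠ 0) (j : ι) (n : ℕ)
    (h0 : ∀ i k, (Ψ * Φ) i k ∈ aa (pw G (Function.update e j (n + 1))) Finset.univ) :
    Module.length S (H1 Φ Ψ (S ⧸ aa (pw G (Function.update e j (n + 1))) Finset.univ)) ≤
      Module.length S (H1 Φ Ψ (S ⧸ aa (pw G (Function.update e j 1)) Finset.univ)) +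
      Module.length S (H1 Φ Ψ (S ⧸ aa (pw G (Function.update e j n)) Finset.univ)) := by
  have key : ∀ (g : S) (K : Ideal S), (∀ x, g * x ∈ K → x ∈ K) →
      (∀ i k, (Ψ * Φ) i k ∈ Ideal.span {g * g ^ n} ⊔ K) →
      Module.length S (H1 Φ Ψ (S ⧸ (Ideal.span {g * g ^ n} ⊔ K))) ≤
      Module.length S (H1 Φ Ψ (S ⧸ (Ideal.span {g} ⊔ K))) +
      Module.length S (H1 Φ Ψ (S ⧸ (Ideal.span {g ^ n} ⊔ K))) := by
    intro g K hK h1
    refine length_H1_le Φ Ψ (mulMap K g (g ^ n)) (projMap K g (g ^ n)) ?_
      (exact_mulMap_projMap K g (g ^ n)) (projMap_surjective K g (g ^ n)) ?_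
    · rw [injective_iff_map_eq_zero]
      intro x hx
      obtain ⟨x, rfl⟩ := Submodule.Quotient.mk_surjective _ x
      have hx' : (Submodule.Quotient.mk (g ^ n * x) : S ⧸ (Ideal.span {g * g ^ n} ⊔ K)) = 0 := hx
      rw [Submodule.Quotient.mk_eq_zero] at hx' ⊢
      obtain ⟨y, hy, z, hz, hyz⟩ := Submodule.mem_sup.mp hx'
      obtain ⟨c, rfl⟩ := Ideal.mem_span_singleton'.mp hy
      have hpow : ∀ m : ℕ, ∀ x, g ^ m * x ∈ K → x ∈ K := by
        intro m
        induction m with
        | zero => intro x hx; simpa using hx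
        | succ m ih =>
          intro x hx
          apply ih
          apply hK
          rw [← mul_assoc, ← pow_succ']
          exact hx
      have h2 : x - c * g ∈ K := by
        apply hpow n
        have : g ^ n * (x - c * g) = z := by
          rw [mul_sub, ← hyz]; ring
        rw [this]; exact hz
      have : x = c * g + (x - c * g) := by ring
      rw [this]
      exact add_mem (Submodule.mem_sup_left (Ideal.mul_mem_left _ _
        (Ideal.mem_span_singleton_self _))) (Submodule.mem_sup_right h2)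
    · intro x
      rw [mv_mv]
      refine mv_eq_zero (fun i k y => ?_) x
      obtain ⟨y, rfl⟩ := Submodule.Quotient.mk_surjective _ y
      rw [← Submodule.Quotient.mk_smul, Submodule.Quotient.mk_eq_zero]
      exact Ideal.mul_mem_right _ _ (h1 i k)
  have hK : ∀ x, G j * x ∈ aa (pw G e) (Finset.univ.erase j) →
      x ∈ aa (pw G e) (Finset.univ.erase j) := by
    intro x hx
    have hP := hG (Function.update e j 1) (fun i => by
      by_cases hij : i = j
      · subst hij; simp
      · rw [Function.update_of_ne hij]; exact he i) (Finset.univ.erase j) j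
        (Finset.notMem_erase j _) x
    have e1 : aa (pw G (Function.update e j 1)) (Finset.univ.erase j) =
        aa (pw G e) (Finset.univ.erase j) := by
      unfold aa
      congr 1
      apply Set.image_congr
      intro i hi
      have hij : i ≠ j := by simpa using hi
      unfold pw
      rw [Function.update_of_ne hij]
    have e2 : pw G (Function.update e j 1) j = G j := by
      unfold pw
      rw [Function.update_self, pow_one]
    rw [e1, e2] at hP
    exact hP hx
  have e1 := aa_pw_update G e j 1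
  have e2 := aa_pw_update G e j n
  have e3 := aa_pw_update G e j (n + 1)
  rw [pow_one] at e1
  rw [pow_succ'] at e3
  rw [e3] at h0
  rw [e1, e2, e3]
  exact key (G j) _ hK h0

/-- the length of the homology over the thickening `S/(G_j^{e_j})` is at most `∏ e_j` times the
length over `S/(G_j)`. -/
theorem length_H1_pw (G : ι → S) (hG : HReg G) (Φ : Matrix (Fin b) (Fin a) S)
    (Ψ : Matrix (Fin c) (Fin b) S) (q : ι → ℕ)
    (h0 : ∀ i k, (Ψ * Φ) i k ∈ aa (pw G q) Finset.univ) (N : ℕ) :
    ∀ e : ι → ℕ, (∀ i, e i ≠ 0) → (∀ i, e i ≤ q i) → ∑ i, e i = N →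
    Module.length S (H1 Φ Ψ (S ⧸ aa (pw G e) Finset.univ)) ≤
      (∏ i, e i : ℕ) * Module.length S (H1 Φ Ψ (S ⧸ aa G Finset.univ)) := by
  induction N using Nat.strong_induction_on with
  | _ N ih =>
  intro e he heq hN
  by_cases hall : ∀ i, e i = 1
  · have h1 : pw G e = G := by
      funext i
      unfold pw
      rw [hall i, pow_one]
    rw [h1, Finset.prod_eq_one (fun i _ => hall i), Nat.cast_one, one_mul]
  · push Not at hall
    obtain ⟨j, hj⟩ := hall
    obtain ⟨n, hn⟩ : ∃ n, e j = n + 1 := ⟨e j - 1, by have := he j; omega⟩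
    have hn0 : n ≠ 0 := by rintro rfl; exact hj (by omega)
    have hupd : ∀ m, m ≠ 0 → m ≤ n → (∀ i, Function.update e j m i ≠ 0) ∧
        (∀ i, Function.update e j m i ≤ q i) ∧ ∑ i, Function.update e j m i < N ∧
        ∏ i, Function.update e j m i = m * ∏ i ∈ Finset.univ.erase j, e i := by
      intro m hm hmn
      refine ⟨fun i => ?_, fun i => ?_, ?_, ?_⟩
      · by_cases hij : i = j
        · subst hij; rw [Function.update_self]; exact hm
        · rw [Function.update_of_ne hij]; exact he i
      · by_cases hij : i = j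
        · subst hij; rw [Function.update_self]; have := heq i; omega
        · rw [Function.update_of_ne hij]; exact heq i
      · rw [Finset.sum_update_of_mem (Finset.mem_univ j), ← hN,
          ← Finset.add_sum_erase _ _ (Finset.mem_univ j), Finset.sdiff_singleton_eq_erase]
        omega
      · rw [Finset.prod_update_of_mem (Finset.mem_univ j), Finset.sdiff_singleton_eq_erase]
    obtain ⟨a1, a2, a3, a4⟩ := hupd 1 one_ne_zero (by omega)
    obtain ⟨b1, b2, b3, b4⟩ := hupd n hn0 le_rfl
    have hself : Function.update e j (n + 1) = e := by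
      rw [← hn, Function.update_eq_self]
    have hle : aa (pw G q) Finset.univ ≤ aa (pw G e) Finset.univ := by
      unfold aa
      rw [Ideal.span_le]
      rintro _ ⟨i, hi, rfl⟩
      have h2 : pw G q i = pw G e i * G i ^ (q i - e i) := by
        unfold pw
        rw [← pow_add]
        congr 1
        have := heq i
        omega
      rw [h2]
      exact Ideal.mul_mem_right _ _ (mem_aa (Finset.mem_univ i))
    have h3 := length_H1_step G hG Φ Ψ e he j n (by
      rw [hself]
      exact fun i k => hle (h0 i k))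
    rw [hself] at h3
    have h4 := ih _ a3 _ a1 a2 rfl
    have h5 := ih _ b3 _ b1 b2 rfl
    refine h3.trans ((add_le_add h4 h5).trans (le_of_eq ?_))
    rw [a4, b4, ← add_mul, ← Nat.cast_add, ← Finset.mul_prod_erase _ _ (Finset.mem_univ j), hn]
    congr 2
    ring

end thick

end Groth.Agent.Lefpen.H715.Cplx
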