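import Groth.Agent.Lefpen.H715.Final1
import Groth.Agent.Lefpen.H21.Asm44

/-!
# The input `InfDiv` of the assembly of S4044
-/

set_option autoImplicit false
universe u

open CategoryTheory AlgebraicGeometry LefPen

namespace Groth.Agent.Lefpen.H715.Final

open Groth.Agent.Lefpen.H21.Asm44 Groth.Agent.Lefpen.H718.Reg

theorem infDiv (p : ℕ) [Fact p.Prime] (d : ℕ) (a : Fin d → ℕ) (ha : ∀ j, 2 ≤ a j)
    (K : Type u) [Field K] [CharP K p] (G : ∀ j, Form (2 + d) K (a j))
    (hJ : JacCond (fun j => (G j).1)) : InfDiv p G :=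
  fun L hL h => Groth.Agent.Lefpen.H715.Final1.infDiv0 p d a ha K G hJ L hL h

end Groth.Agent.Lefpen.H715.Final
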