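import Groth.Agent.Lefpen.H715.TupDef
import Groth.Agent.Lefpen.H715.ConeMain
import Groth.Agent.Lefpen.H718.CocIso
import Groth.Agent.Lefpen.H521.CartierCoc
import Groth.Agent.Lefpen.H61.T4Int

/-!
# Infinitely `p`-divisible invertible modules on a complete intersection surface

From invertible modules to Cartier cocycles, tuples of forms and the theorem on the cone.
-/

set_option autoImplicit false
universe u
open CategoryTheory CategoryTheory.Limits AlgebraicGeometry TopologicalSpace Opposite MvPolynomial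
open LefPen

namespace Groth.Agent.Lefpen.H715.Final0

open Groth.Agent.Lefpen.H718.Reg Groth.Agent.Lefpen.H718.ConeCM Groth.Agent.Lefpen.H718.Grade
open Groth.Agent.Lefpen.H718.Chart Groth.Agent.Lefpen.H725.CocDef Groth.Agent.Lefpen.H121.ChartLift
open Groth.Agent.Lefpen.H61.T4Phi Groth.Agent.Lefpen.H715.TupDef Groth.Agent.Lefpen.H715.ConeMain

section X_ne

variable {K : Type u} [Field K] {N d : ℕ} {a : Fin d → ℕ}

/-- forms of degrees at least two do not generate a coordinate -/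
theorem X_ne (g : Fin d → MvPolynomial (Fin (N + 1)) K) (hh : ∀ j, (g j).IsHomogeneous (a j))
    (ha : ∀ j, 2 ≤ a j) (i : Fin (N + 1)) : mk g (X i) ≠ 0 := by
  intro h0
  have h1 : (X i : MvPolynomial (Fin (N + 1)) K) ∈ Ideal.span (Set.range g) :=
    Ideal.Quotient.eq_zero_iff_mem.1 h0
  have key : ∀ P ∈ Ideal.span (Set.range g), ∀ m : Fin (N + 1) →₀ ℕ, m.degree ≤ 1 → coeff m P = 0 := by
    intro P hP
    refine Submodule.span_induction ?_ ?_ ?_ ?_ hP
    · rintro _ ⟨j, rfl⟩ m hm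
      by_contra hc
      have h2 := hh j hc
      rw [show (1 : Fin (N + 1) → ℕ) = fun _ => 1 from rfl, ← Finsupp.degree_eq_weight_one] at h2
      have := ha j
      omega
    · intro m _
      exact coeff_zero m
    · intro P R _ _ hP hR m hm
      rw [coeff_add, hP m hm, hR m hm, add_zero]
    · intro c P _ hP m hm
      rw [smul_eq_mul, coeff_mul]
      refine Finset.sum_eq_zero fun x hx => ?_
      rw [Finset.mem_antidiagonal] at hx
      rw [hP x.2, mul_zero]
      have h3 : x.1.degree + x.2.degree = m.degree := by rw [← hx, map_add]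
      omega
  have h4 := key _ h1 (Finsupp.single i 1) (by rw [Finsupp.degree_single])
  rw [coeff_X, if_pos rfl] at h4
  exact one_ne_zero h4

end X_ne

section units

variable {X : Scheme.{u}} [IsIntegral X]

theorem unitAt_one (x : X) : UnitAt x (1 : X.functionField) :=
  ⟨⊤, trivial, trivial, 1, isUnit_one, map_one _⟩

theorem unitAt_pow {x : X} {w : X.functionField} (h : UnitAt x w) (n : ℕ) : UnitAt x (w ^ n) := by
  induction n with
  | zero => rw [pow_zero]; exact unitAt_one x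
  | succ n ih => rw [pow_succ]; exact H521.CartierCoc.unitAt_mul ih h

theorem unitAt_zpow {x : X} {w : X.functionField} (h : UnitAt x w) (n : ℤ) : UnitAt x (w ^ n) := by
  rcases n with n | n
  · rw [Int.ofNat_eq_natCast, zpow_natCast]
    exact unitAt_pow h n
  · rw [zpow_negSucc]
    exact H521.CartierCoc.unitAt_inv (unitAt_pow h (n + 1))

end units

variable {K : Type u} [Field K] {N d : ℕ} {a : Fin d → ℕ} (G : ∀ j : Fin d, Form N K (a j))
variable [IsIntegral (Y G)] (hdom : IsDomain (A (eqn G))) (hx : ∀ i, mk (eqn G) (X i) ≠ 0)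

theorem val_ne_zero (α : Fin (N + 1)) : val G hdom hx 0 (X α) ≠ 0 := by
  obtain ⟨Φ, hΦ, -⟩ := exists_phi G hdom hx (FractionRing (A (eqn G)))
  intro h0
  have h1 := phi_fn_X G hdom hx (FractionRing (A (eqn G))) Φ hΦ 0 α
  rw [show ff (ychart G 0) (generic_mem G hdom hx 0) (fn G 0 (X α)) = val G hdom hx 0 (X α) from rfl,
    h0, map_zero] at h1
  exact div_ne_zero (xx_ne_zero G hx _ α) (xx_ne_zero G hx _ 0) h1.symm

/-- the cocycle of `O(e)`, compared with `(T_α/T_0)^e` -/
theorem exists_coc_twist (e : ℤ) : ∃ t : Y G → (Y G).functionField,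
    HasCoc ((Scheme.Modules.pullback (ciIdeal G).subschemeι).obj (Twist.twistProjSpace N K e)) t ∧
    ∀ α (x : Y G), x ∈ ychart G α → UnitAt x (t x / val G hdom hx 0 (X α) ^ e) := by
  obtain ⟨Φ, hΦ, -⟩ := exists_phi G hdom hx (FractionRing (A (eqn G)))
  obtain ⟨t, ht, ht'⟩ := H61.T4Coc.hasCoc_twist G hdom hx (FractionRing (A (eqn G))) Φ hΦ e
  refine ⟨t, ht', fun α x hxα => ?_⟩
  obtain ⟨β, hxβ, hβ⟩ := ht x
  obtain ⟨w, hw, hΦw⟩ := (mem_chart_iff G hdom hx (FractionRing (A (eqn G))) Φ hΦ α β x hxα).1 hxβ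
  have h1 : t x / val G hdom hx 0 (X α) ^ e = w ^ e := by
    apply Φ.injective
    rw [map_div₀, map_zpow₀, map_zpow₀, hβ, hΦw]
    have h2 : Φ (val G hdom hx 0 (X α)) = xx G (FractionRing (A (eqn G))) α /
      xx G (FractionRing (A (eqn G))) 0 := phi_fn_X G hdom hx _ Φ hΦ 0 α
    rw [h2, ← div_zpow, div_div_div_cancel_right₀ (xx_ne_zero G hx _ 0)]
  rw [h1]
  exact unitAt_zpow hw e

omit [IsIntegral (Y G)] in
theorem exists_mem_chart (x : Y G) : ∃ α, x ∈ ychart G α := by
  have hy : x ∈ ⨆ j : Fin (N + 1), ychart G j := by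
    rw [Groth.Agent.Lefpen.H708.Geo.iSup_preimage_chart (yι G)]; trivial
  exact Opens.mem_iSup.1 hy

/-- from cocycles to isomorphisms -/
theorem iso_of_unitAt {L : (Y G).Modules} {b : Y G → (Y G).functionField} (hb : HasCoc L b) (e : ℤ)
    (c : (Y G).functionField) (hc : c ≠ 0)
    (h : ∀ α (x : Y G), x ∈ ychart G α → UnitAt x (c * b x / val G hdom hx 0 (X α) ^ e)) :
    Nonempty (L ≅ (Scheme.Modules.pullback (ciIdeal G).subschemeι).obj (Twist.twistProjSpace N K e)) := by
  obtain ⟨t, ht, ht'⟩ := exists_coc_twist G hdom hx e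
  refine H521.CartierCoc.hasCoc_iso hb ht c hc fun x => ?_
  obtain ⟨α, hα⟩ := exists_mem_chart G x
  have h1 := H521.CartierCoc.unitAt_div (h α x hα) (ht' α x hα)
  rwa [div_div_div_cancel_right₀ (zpow_ne_zero _ (val_ne_zero G hdom hx α))] at h1

/-- from isomorphisms to cocycles -/
theorem unitAt_of_iso {L M : (Y G).Modules} {b b₂ : Y G → (Y G).functionField} (hb : HasCoc L b)
    (hb₂ : HasCoc M b₂) (q : ℕ) (e : ℤ)
    (φ : CohB1.tensorMod L (CohB1.tensorPow M q) ≅
      (Scheme.Modules.pullback (ciIdeal G).subschemeι).obj (Twist.twistProjSpace N K e)) :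
    ∃ c : (Y G).functionField, c ≠ 0 ∧ ∀ α (x : Y G), x ∈ ychart G α →
      UnitAt x (c * b x / (val G hdom hx 0 (X α) ^ e * (b₂ x)⁻¹ ^ q)) := by
  obtain ⟨t, ht, ht'⟩ := exists_coc_twist G hdom hx e
  obtain ⟨c, hc, h⟩ := H718.CocIso.exists_const_of_iso
    (H521.CartierCoc.hasCoc_tensor hb (H521.CartierCoc.hasCoc_pow hb₂ q)) ht φ
  refine ⟨c, hc, fun α x hα => ?_⟩
  have h1 := H521.CartierCoc.unitAt_mul (h x) (ht' α x hα)
  have h2 := ht.1 x
  have h3 := zpow_ne_zero e (val_ne_zero G hdom hx α)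
  have h4 := pow_ne_zero q (hb₂.1 x)
  have e1 : c * (b x * b₂ x ^ q) / t x * (t x / val G hdom hx 0 (X α) ^ e) =
      c * b x / (val G hdom hx 0 (X α) ^ e * (b₂ x)⁻¹ ^ q) := by
    rw [inv_pow]
    field_simp
  rwa [e1] at h1

end Groth.Agent.Lefpen.H715.Final0
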