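import Groth.Agent.Lefpen.H715.TupDef
import Groth.Agent.Lefpen.H715.ConeMain
import Groth.Agent.Lefpen.H718.NL8Tup
import Groth.Agent.Lefpen.H521.CartierCoc

/-!
# From the generator on the cone to a twist

If `f u_l = v_l u_{k₀}` with homogeneous `v_l` generating the unit ideal off the origin then the Cartier
cocycle `b` generated by the `u_l` is, up to a constant, that of some `O(e)`.
-/

set_option autoImplicit false
universe u
open CategoryTheory CategoryTheory.Limits AlgebraicGeometry TopologicalSpace Opposite MvPolynomial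
open LefPen

namespace Groth.Agent.Lefpen.H715.TwistCone

open Groth.Agent.Lefpen.H718.Reg Groth.Agent.Lefpen.H718.ConeCM Groth.Agent.Lefpen.H718.Grade
open Groth.Agent.Lefpen.H718.Chart Groth.Agent.Lefpen.H725.CocDef Groth.Agent.Lefpen.H121.ChartLift
open Groth.Agent.Lefpen.H61.T4Phi Groth.Agent.Lefpen.H715.TupDef Groth.Agent.Lefpen.H715.ConeMain
open Groth.Agent.Lefpen.H718.NL8Tup Groth.Agent.Lefpen.H521.CartierCoc Groth.Agent.Fdesc.LocGen

section reg

variable {X : Scheme.{u}} [IsIntegral X]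

theorem regAt_add {x : X} {u v : X.functionField} (h : RegAt x u) (h' : RegAt x v) : RegAt x (u + v) := by
  obtain ⟨U, hx, hη, g, rfl⟩ := h
  obtain ⟨V, hx', hη', g', rfl⟩ := h'
  refine ⟨U ⊓ V, ⟨hx, hx'⟩, ⟨hη, hη'⟩, ores inf_le_left g + ores inf_le_right g', ?_⟩
  rw [map_add, Groth.Agent.Lefpen.H61.T4Phi.ff_ores, Groth.Agent.Lefpen.H61.T4Phi.ff_ores]

theorem regAt_zero (x : X) : RegAt x (0 : X.functionField) :=
  ⟨⊤, trivial, trivial, 0, map_zero _⟩

theorem regAt_sum {ι : Type} (s : Finset ι) {x : X} (w : ι → X.functionField) (h : ∀ i, RegAt x (w i)) :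
    RegAt x (∑ i ∈ s, w i) := by
  classical
  induction s using Finset.induction_on with
  | empty => rw [Finset.sum_empty]; exact regAt_zero x
  | insert i s hi ih => rw [Finset.sum_insert hi]; exact regAt_add (h i) ih

/-- a rational function which is regular, with regular inverse, is a unit -/
theorem unitAt_of_regAt {x : X} {w w' : X.functionField} (h : RegAt x w) (h' : RegAt x w')
    (hw : UnitAt x (w * w')) : UnitAt x w := by
  obtain ⟨U, hx, hη, g, rfl⟩ := h
  obtain ⟨V, hx', hη', g', rfl⟩ := h'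
  obtain ⟨W, hx'', hη'', t, ht, hwt⟩ := hw
  have k1 : U ⊓ V ⊓ W ≤ U := inf_le_left.trans inf_le_left
  have k2 : U ⊓ V ⊓ W ≤ V := inf_le_left.trans inf_le_right
  have k3 : U ⊓ V ⊓ W ≤ W := inf_le_right
  have hη3 : genericPoint X ∈ U ⊓ V ⊓ W := ⟨⟨hη, hη'⟩, hη''⟩
  refine ⟨U ⊓ V ⊓ W, ⟨⟨hx, hx'⟩, hx''⟩, hη3, ores k1 g, ?_, Groth.Agent.Lefpen.H61.T4Phi.ff_ores _ _ _⟩
  have h1 : ores k1 g * ores k2 g' = ores k3 t := by
    apply Groth.Agent.Lefpen.H61.T4Phi.ff_injective _ hη3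
    rw [map_mul, Groth.Agent.Lefpen.H61.T4Phi.ff_ores, Groth.Agent.Lefpen.H61.T4Phi.ff_ores,
      Groth.Agent.Lefpen.H61.T4Phi.ff_ores, hwt]
  exact isUnit_of_mul_isUnit_left (by rw [h1]; exact ht.map _)

end reg

variable {K : Type u} [Field K] {N d : ℕ} {a : Fin d → ℕ} (G : ∀ j : Fin d, Form N K (a j))
variable [IsIntegral (Y G)] (hdom : IsDomain (A (eqn G))) (hx : ∀ i, mk (eqn G) (X i) ≠ 0)

theorem val_mul (α : Fin (N + 1)) (P R : MvPolynomial (Fin (N + 1)) K) :
    val G hdom hx α (P * R) = val G hdom hx α P * val G hdom hx α R := by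
  simp only [val, map_mul]

theorem val_congr (α : Fin (N + 1)) {P R : MvPolynomial (Fin (N + 1)) K} (h : mk (eqn G) P = mk (eqn G) R) :
    val G hdom hx α P = val G hdom hx α R := by
  have h1 := fn_eq_zero G α (Ideal.Quotient.eq.1 h)
  rw [map_sub, sub_eq_zero] at h1
  rw [val, val, h1]

theorem val_ne_zero {D : ℕ} {P : MvPolynomial (Fin (N + 1)) K} (hP : P.IsHomogeneous D)
    (h : mk (eqn G) P ≠ 0) : val G hdom hx 0 P ≠ 0 := by
  obtain ⟨Φ, hΦ, -⟩ := exists_phi G hdom hx (FractionRing (A (eqn G)))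
  intro h0
  have h1 : Φ (val G hdom hx 0 P) = _ := phi_fn G hdom hx (FractionRing (A (eqn G))) Φ hΦ 0 hP
  rw [h0, map_zero] at h1
  refine div_ne_zero ?_ (pow_ne_zero _ (xx_ne_zero G hx _ 0)) h1.symm
  rw [Ne, vv_eq_zero_iff]
  exact h

theorem regAt_val {α : Fin (N + 1)} {x : Y G} (hxα : x ∈ ychart G α) (P : MvPolynomial (Fin (N + 1)) K) :
    RegAt x (val G hdom hx α P) := regAt_ff _ _ hxα

/-- (B4) -/
theorem exists_twist_of_cone (hh : ∀ i, (eqn G i).IsHomogeneous (a i))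
    {b : Y G → (Y G).functionField} {r : ℕ} (T : Tup G hdom hx b r) (k₀ : Fin r)
    (hk₀ : mk (eqn G) (T.u k₀) ≠ 0) (D : ℕ) (f : A (eqn G)) (v : Fin r → A (eqn G))
    (hf : Homog (eqn G) hh D f) (hf0 : f ≠ 0) (hv : ∀ l, f * mk (eqn G) (T.u l) = v l * mk (eqn G) (T.u k₀))
    (hv' : ∀ l, v l = 0 ∨ (T.m k₀ ≤ D + T.m l ∧ Homog (eqn G) hh (D + T.m l - T.m k₀) (v l)))
    (hspan : ∀ β, ∃ R : ℕ, mk (eqn G) (X β) ^ R ∈ Ideal.span (Set.range v)) :
    ∃ (e : ℤ) (c : (Y G).functionField), c ≠ 0 ∧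
      ∀ α (x : Y G), x ∈ ychart G α → UnitAt x (c * b x / val G hdom hx 0 (X α) ^ e) := by
  -- lifts
  obtain ⟨F, hF, rfl⟩ := (homog_iff (eqn G) hh).1 hf
  choose V hV using fun l => Ideal.Quotient.mk_surjective (I := Ideal.span (Set.range (eqn G))) (v l)
  have hV : ∀ l, mk (eqn G) (V l) = v l := hV
  have hF0 := val_ne_zero G hdom hx hF hf0
  have hu0 := val_ne_zero G hdom hx (T.hu k₀) hk₀
  refine ⟨(D : ℤ) - T.m k₀ - T.e, val G hdom hx 0 F * T.κ / val G hdom hx 0 (T.u k₀),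
    div_ne_zero (mul_ne_zero hF0 T.κ_ne) hu0, fun α x hxα => ?_⟩
  have hτ := val_X_ne_zero G hdom hx 0 α
  have hκ := T.κ_ne
  obtain ⟨l₀, hl₀⟩ := T.cover α x hxα
  have hbx : b x ≠ 0 := fun h0 => by
    refine unitAt_ne_zero (T.unit l₀ α x hxα hl₀) ?_
    rw [h0, mul_zero, zero_mul, div_zero]
  -- the quotient `z = u_{k₀} / (F g_x)`
  set gx : (Y G).functionField := T.κ * b x * val G hdom hx 0 (X α) ^ T.e with hgx
  have hgx0 : gx ≠ 0 := mul_ne_zero (mul_ne_zero hκ hbx) (zpow_ne_zero _ hτ)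
  set z : (Y G).functionField := val G hdom hx α (T.u k₀) / (val G hdom hx α F * gx) with hz
  have hFα : val G hdom hx α F ≠ 0 := by
    rw [val_eq G hdom hx α hF]
    exact mul_ne_zero hF0 (zpow_ne_zero _ hτ)
  have h1 : ∀ l, val G hdom hx α (V l) * z = val G hdom hx α (T.u l) / gx := by
    intro l
    have h2 : val G hdom hx α (F * T.u l) = val G hdom hx α (V l * T.u k₀) := by
      apply val_congr
      rw [map_mul, map_mul, hV, hv]
    rw [val_mul, val_mul] at h2
    rw [hz, ← mul_div_assoc, ← h2, mul_div_mul_left _ _ hFα]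
  have hreg : ∀ l, RegAt x (val G hdom hx α (V l) * z) := fun l => by
    rw [h1]; exact T.reg l α x hxα
  have hunit : UnitAt x (val G hdom hx α (V l₀) * z) := by
    rw [h1]; exact T.unit l₀ α x hxα hl₀
  have hzreg : RegAt x z := by
    obtain ⟨R, hR⟩ := hspan α
    obtain ⟨c, hc⟩ := Ideal.mem_span_range_iff_exists_fun.1 hR
    choose C hC using fun l => Ideal.Quotient.mk_surjective (I := Ideal.span (Set.range (eqn G))) (c l)
    have hC : ∀ l, mk (eqn G) (C l) = c l := hC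
    have h3 : val G hdom hx α (∑ l, C l * V l) = val G hdom hx α (X α ^ R) := by
      apply val_congr
      rw [map_sum, map_pow, ← hc]
      exact Finset.sum_congr rfl fun l _ => by rw [map_mul, hC, hV]
    have h4 : (1 : (Y G).functionField) = ∑ l, val G hdom hx α (C l) * val G hdom hx α (V l) := by
      have h5 : val G hdom hx α (X α ^ R) = 1 := by
        have := val_X_self G hdom hx α
        simp only [val, map_pow] at this ⊢
        rw [this, one_pow]
      rw [← h5, ← h3]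
      simp only [val, map_sum, map_mul]
    have h6 : z = ∑ l, val G hdom hx α (C l) * (val G hdom hx α (V l) * z) := by
      simp only [← mul_assoc]
      rw [← Finset.sum_mul, ← h4, one_mul]
    rw [h6]
    exact regAt_sum _ _ fun l => regAt_mul (regAt_val G hdom hx hxα _) (hreg l)
  have hzunit : UnitAt x z := unitAt_of_regAt hzreg (regAt_val G hdom hx hxα (V l₀)) (by
    rw [mul_comm]; exact hunit)
  have h7 := unitAt_inv hzunit
  have h8 : z⁻¹ = val G hdom hx 0 F * T.κ / val G hdom hx 0 (T.u k₀) * b x /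
      val G hdom hx 0 (X α) ^ ((D : ℤ) - T.m k₀ - T.e) := by
    rw [hz, val_eq G hdom hx α hF, val_eq G hdom hx α (T.hu k₀), hgx, inv_div, zpow_sub₀ hτ,
      zpow_sub₀ hτ, zpow_neg, zpow_neg]
    have e1 := zpow_ne_zero (D : ℤ) hτ
    have e2 := zpow_ne_zero (T.m k₀ : ℤ) hτ
    have e3 := zpow_ne_zero T.e hτ
    field_simp
  rwa [← h8]

end Groth.Agent.Lefpen.H715.TwistCone
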