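import Groth.Agent.Lefpen.H715.Final0
import Groth.Agent.Lefpen.H715.TwistCone
import Groth.Agent.Lefpen.H718.NL8Tup
import Groth.Agent.Lefpen.H121.NL8Tup

/-!
# Infinitely `p`-divisible invertible modules on a complete intersection surface: the theorem

`infDiv0`: on a smooth complete intersection surface over a field of characteristic `p` an invertible
module `L` such that for all `n` some `L ⊗ M^{p^n}` is an `O(e)` is itself some `O(e)`.
-/

set_option autoImplicit false
universe u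
open CategoryTheory CategoryTheory.Limits AlgebraicGeometry TopologicalSpace Opposite MvPolynomial
open LefPen

namespace Groth.Agent.Lefpen.H715.Final1

open Groth.Agent.Lefpen.H718.Reg Groth.Agent.Lefpen.H718.ConeCM Groth.Agent.Lefpen.H718.Grade
open Groth.Agent.Lefpen.H718.Chart Groth.Agent.Lefpen.H725.CocDef Groth.Agent.Lefpen.H121.ChartLift
open Groth.Agent.Lefpen.H61.T4Phi Groth.Agent.Lefpen.H715.TupDef Groth.Agent.Lefpen.H715.ConeMain
open Groth.Agent.Lefpen.H715.Final0 Groth.Agent.Lefpen.H718.NL8Tup Groth.Agent.Lefpen.H121.NL8Tup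
open Groth.Agent.Lefpen.H715.TwistCone

/-- **NL-8.** On a smooth complete intersection surface (of multidegree `≥ 2`) over a field of
characteristic `p`, an invertible module which is infinitely `p`-divisible modulo the `O(e)` is some
`O(e)`. -/
theorem infDiv0 (p : ℕ) [Fact p.Prime] (d : ℕ) (a : Fin d → ℕ) (ha : ∀ j, 2 ≤ a j)
    (K : Type u) [Field K] [CharP K p] (G : ∀ j, Form (2 + d) K (a j))
    (hJ : JacCond (fun j => (G j).1)) (L : (ciIdeal G).subscheme.Modules) (hL : PicF.IsInvertible L)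
    (hdiv : ∀ n : ℕ, ∃ (M : (ciIdeal G).subscheme.Modules) (e : ℤ), PicF.IsInvertible M ∧
      Nonempty (CohB1.tensorMod L (CohB1.tensorPow M (p ^ n)) ≅
        (Scheme.Modules.pullback (ciIdeal G).subschemeι).obj (Twist.twistProjSpace (2 + d) K e))) :
    ∃ e : ℤ, Nonempty (L ≅ (Scheme.Modules.pullback (ciIdeal G).subschemeι).obj
      (Twist.twistProjSpace (2 + d) K e)) := by
  have ha1 : ∀ j, 1 ≤ a j := fun j => le_trans one_le_two (ha j)
  have hint : IsIntegral (Y G) := H61.T4Int.isIntegral_Y G ha1 hJ rfl one_le_two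
  have hh : ∀ i, (eqn G i).IsHomogeneous (a i) := fun i => (G i).2
  have hg : ∀ i, constantCoeff (eqn G i) = 0 := fun i => by
    rw [constantCoeff_eq]
    by_contra h0
    have h1 := hh i h0
    rw [map_zero] at h1
    have := ha1 i
    omega
  have hdom : IsDomain (A (eqn G)) := isDomain (eqn G) hh hg hJ rfl one_le_two
  have hx := X_ne (eqn G) hh ha
  let Q := FractionRing (A (eqn G))
  obtain ⟨Φ, hΦ, -⟩ := exists_phi G hdom hx Q
  obtain ⟨b, hb⟩ := H521.CartierCoc.exists_hasCoc hL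
  obtain ⟨r, ⟨T⟩⟩ := exists_tup G hdom hx b hb.1 (H521.CartierCoc.hasCoc_loc hb)
  obtain ⟨hinv, k₀, hk₀⟩ := inv0_of_tup G hdom hx T
  obtain ⟨D, f, v, hf, hf0, hv, hv', hspan⟩ := cone (eqn G) p rfl hh hg hJ Q T.m
    (fun l => mk (eqn G) (T.u l)) (fun l => homog_mk (eqn G) hh (T.hu l)) k₀ hk₀ hinv (fun n => by
      obtain ⟨M, e, hM, ⟨φ⟩⟩ := hdiv n
      obtain ⟨b₂, hb₂⟩ := H521.CartierCoc.exists_hasCoc hM
      obtain ⟨c, hc, hce⟩ := unitAt_of_iso G hdom hx hb hb₂ (p ^ n) e φ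
      obtain ⟨r', ⟨T'⟩⟩ := exists_tup G hdom hx (fun x => (b₂ x)⁻¹) (fun x => inv_ne_zero (hb₂.1 x))
        (fun x => by
          obtain ⟨U, hxU, hU⟩ := H521.CartierCoc.hasCoc_loc hb₂ x
          refine ⟨U, hxU, fun y hy => ?_⟩
          have h1 := H521.CartierCoc.unitAt_inv (hU y hy)
          rwa [show (b₂ x)⁻¹ / (b₂ y)⁻¹ = (b₂ x / b₂ y)⁻¹ by rw [inv_div, div_inv_eq_mul, div_eq_mul_inv, mul_comm]])
      obtain ⟨hinv', hne'⟩ := inv0_of_tup G hdom hx T'
      obtain ⟨w, hw, h1, h2⟩ := le0_of_tup G hdom hx Q T T' (p ^ n) e c hc hce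
      exact ⟨r', fun l => mk (eqn G) (T'.u l), w, hw, hne', hinv', h1, h2⟩)
  obtain ⟨e, c, hc, hce⟩ := exists_twist_of_cone G hdom hx hh T k₀ hk₀ D f v hf hf0 hv hv' hspan
  exact ⟨e, iso_of_unitAt G hdom hx hb e c hc hce⟩

end Groth.Agent.Lefpen.H715.Final1
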