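import Groth.Agent.Lefpen.H715.Cplx
import Groth.Agent.Localalg.Kunz

/-!
Lower bound for the length of the homology of Frobenius powers (flatness of Frobenius).
-/

set_option autoImplicit false
universe u

namespace Groth.Agent.Lefpen.H715.Frob

open IsLocalRing Groth.Agent.Lefpen.H715.LiftFree Groth.Agent.Lefpen.H715.RegSeq
  Groth.Agent.Lefpen.H715.Cplx Groth.Agent.Localalg.Lech Groth.Agent.Localalg.Kunz

/-- relations over a flat extension come from relations downstairs. -/
theorem flat_relation {R R' : Type*} [CommRing R] [CommRing R'] (φ : R →+* R') (hφ : φ.Flat)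
    {β ν : Type*} [Fintype β] [Fintype ν] [DecidableEq ν] (A : β → ν → R) (y : ν → R')
    (h : ∀ i, ∑ l, φ (A i l) * y l = 0) :
    ∃ (k : ℕ) (s : ν → Fin k → R) (y' : Fin k → R'),
      (∀ l, y l = ∑ m, φ (s l m) * y' m) ∧ ∀ i m, ∑ l, A i l * s l m = 0 := by
  classical
  algebraize [φ]
  let f : (β → R) →ₗ[R] (ν → R) := LinearMap.pi (fun l => ∑ i, A i l • LinearMap.proj i)
  have hf : ∀ u l, f u l = ∑ i, A i l * u i := by
    intro u l
    simp [f]
  let x : (ν → R) →ₗ[R] R' := ∑ l, (LinearMap.toSpanSingleton R R' (y l)).comp (LinearMap.proj l)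
  have hx : ∀ w, x w = ∑ l, φ (w l) * y l := by
    intro w
    rw [LinearMap.sum_apply]
    refine Finset.sum_congr rfl fun l _ => ?_
    rw [LinearMap.comp_apply, LinearMap.toSpanSingleton_apply, Algebra.smul_def]
    rfl
  have hxf : x ∘ₗ f = 0 := by
    refine LinearMap.ext fun u => ?_
    rw [LinearMap.comp_apply, hx, LinearMap.zero_apply]
    simp only [hf, map_sum, map_mul, Finset.sum_mul]
    rw [Finset.sum_comm]
    refine Finset.sum_eq_zero fun i _ => ?_
    have : ∑ l, φ (A i l) * φ (u i) * y l = φ (u i) * ∑ l, φ (A i l) * y l := by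
      rw [Finset.mul_sum]
      exact Finset.sum_congr rfl fun l _ => by ring
    rw [this, h i, mul_zero]
  obtain ⟨k, a, y', hy', ha⟩ := Module.Flat.exists_factorization_of_comp_eq_zero_of_free hxf
  refine ⟨k, fun l m => a (Pi.single l 1) m, fun m => y' (Finsupp.single m 1), fun l => ?_,
    fun i m => ?_⟩
  · have h1 : x (Pi.single l 1) = y l := by
      rw [hx, Finset.sum_eq_single l]
      · rw [Pi.single_eq_same, map_one, one_mul]
      · intro m _ hm
        rw [Pi.single_eq_of_ne hm, map_zero, zero_mul]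
      · intro h; exact absurd (Finset.mem_univ _) h
    rw [← h1, hy', LinearMap.comp_apply]
    conv_lhs => rw [← Finsupp.univ_sum_single (a (Pi.single l 1)), map_sum]
    refine Finset.sum_congr rfl fun m _ => ?_
    have h2 : Finsupp.single m (a (Pi.single l 1) m) =
        (a (Pi.single l 1) m) • (Finsupp.single m (1 : R)) := by
      rw [Finsupp.smul_single, smul_eq_mul, mul_one]
    rw [h2, map_smul, Algebra.smul_def]
    rfl
  · have h1 : a (f (Pi.single i 1)) = 0 := LinearMap.congr_fun ha _
    have h2 : f (Pi.single i 1) = ∑ l, A i l • Pi.single l (1 : R) := by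
      funext l
      rw [hf, Finset.sum_apply, Finset.sum_eq_single i, Finset.sum_eq_single l]
      · simp
      · intro m _ hm
        rw [Pi.smul_apply, Pi.single_eq_of_ne (Ne.symm hm), smul_zero]
      · intro h; exact absurd (Finset.mem_univ _) h
      · intro m _ hm
        rw [Pi.single_eq_of_ne hm, mul_zero]
      · intro h; exact absurd (Finset.mem_univ _) h
    rw [h2, map_sum] at h1
    have h3 := DFunLike.congr_fun h1 m
    rw [Finsupp.finsetSum_apply, Finsupp.zero_apply] at h3
    rw [← h3]
    exact Finset.sum_congr rfl fun l _ => by rw [map_smul, Finsupp.smul_apply, smul_eq_mul]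

/-- a nonzero module killed by a power of `m` has a nonzero socle element -/
theorem exists_socle {R : Type*} [CommRing R] [IsLocalRing R] {M : Type*} [AddCommGroup M]
    [Module R M] [Nontrivial M] (hs : ∃ s : ℕ, ∀ r ∈ maximalIdeal R ^ s, ∀ z : M, r • z = 0) :
    ∃ z : M, z ≠ 0 ∧ ∀ r ∈ maximalIdeal R, r • z = 0 := by
  classical
  have h1 := Nat.find_spec hs
  have h0 : Nat.find hs ≠ 0 := by
    intro h
    rw [h] at h1
    obtain ⟨z, hz⟩ := exists_ne (0 : M)
    exact hz (by simpa using h1 1 (by simp) z)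
  have h2 := Nat.find_min hs (m := Nat.find hs - 1) (by omega)
  push Not at h2
  obtain ⟨r, hr, z, hz⟩ := h2
  refine ⟨r • z, hz, fun t ht => ?_⟩
  rw [smul_smul]
  apply h1
  obtain ⟨k, hk⟩ := Nat.exists_eq_succ_of_ne_zero h0
  rw [hk, Nat.succ_sub_one] at hr
  rw [hk, pow_succ']
  exact Ideal.mul_mem_mul ht hr

variable {S : Type u} [CommRing S]

/-- length of a module with an element with small annihilator -/
theorem le_length_of_ann {M : Type*} [AddCommGroup M] [Module S M] (z : M) (I : Ideal S)
    (h : ∀ r : S, r • z = 0 → r ∈ I) : len I ≤ Module.length S M := by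
  let f : S →ₗ[S] M := LinearMap.toSpanSingleton S M z
  have hle : LinearMap.ker f ≤ I := fun r hr => h r (by
    rw [LinearMap.mem_ker, LinearMap.toSpanSingleton_apply] at hr; exact hr)
  have h1 : len I ≤ Module.length S (S ⧸ LinearMap.ker f) :=
    Module.length_le_of_surjective (Submodule.factor hle) (Submodule.factor_surjective hle)
  have h2 : Module.length S (S ⧸ LinearMap.ker f) = Module.length S (LinearMap.range f) :=
    LinearEquiv.length_eq f.quotKerEquivRange
  rw [h2] at h1
  exact h1.trans (Module.length_le_of_injective (LinearMap.range f).subtype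
    (Submodule.subtype_injective _))

section

variable [IsRegularLocalRing S] (p : ℕ) [Fact p.Prime] [CharP S p]

/-- length of `S / m^[q]` -/
theorem le_len_frob {n : ℕ} (hn : ringKrullDim S = n) (e : ℕ) :
    (((p ^ e) ^ n : ℕ) : ℕ∞) ≤ len ((maximalIdeal S).map (iterateFrobenius S p e)) := by
  obtain ⟨r, x, hx, hmin⟩ := exists_minimal_generators_maximalIdeal S
  have hflat := flat_iterateFrobenius p S (frobenius_flat_of_isRegularLocalRing p S) e
  have hp : 0 < p ^ e := pow_pos (Fact.out : p.Prime).pos e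
  obtain ⟨q, hq⟩ : ∃ q, p ^ e = q + 1 := ⟨p ^ e - 1, by omega⟩
  have h1 : Indep (fun i => x i ^ (q + 1)) := by
    have := indep_of_flat _ hflat x hx hmin
    simpa [iterateFrobenius_def, hq] using this
  have h2 := h1.length_pow
  have h6 : len (Ideal.span (Set.range x)) = 1 := by
    rw [hx]
    exact Module.length_eq_one_iff.mpr (isSimpleModule_iff_isCoatom.mpr
      (maximalIdeal.isMaximal S).out)
  rw [h6, mul_one, Fintype.card_fin] at h2
  have h3 : (maximalIdeal S).map (iterateFrobenius S p e) =
      Ideal.span (Set.range (fun i => x i ^ (q + 1))) := by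
    rw [← hx, Ideal.map_span, ← Set.range_comp]
    congr 2
    funext i
    simp [iterateFrobenius_def, hq]
  rw [h3, h2, hq]
  have h4 : n ≤ r := by
    have h5 : (maximalIdeal S).spanFinrank ≤ r := by
      rw [← hx]
      refine (Submodule.spanFinrank_span_le_ncard_of_finite (Set.finite_range x)).trans ?_
      rw [← Set.image_univ]
      refine (Set.ncard_image_le Set.finite_univ).trans ?_
      simp
    have h7 := IsRegularLocalRing.spanFinrank_maximalIdeal (R := S)
    rw [hn] at h7
    have h8 : (maximalIdeal S).spanFinrank = n := by exact_mod_cast h7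
    omega
  exact_mod_cast Nat.pow_le_pow_right (by omega) h4

variable {ι : Type*} [Fintype ι] {a b c : ℕ}

/-- **D1.** lower bound for the length of the homology of the Frobenius power of a three-term
sequence with non-zero homology of finite length. -/
theorem pow_le_length_H1 {n : ℕ} (hn : ringKrullDim S = n) (G : ι → S)
    (Φ : Matrix (Fin b) (Fin a) S) (Ψ : Matrix (Fin c) (Fin b) S)
    [Nontrivial (H1 Φ Ψ (S ⧸ aa G Finset.univ))]
    (hs : ∃ s : ℕ, ∀ r ∈ maximalIdeal S ^ s, ∀ z : H1 Φ Ψ (S ⧸ aa G Finset.univ), r • z = 0)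
    (e : ℕ) :
    (((p ^ e) ^ n : ℕ) : ℕ∞) ≤ Module.length S (H1 (Φ.map (iterateFrobenius S p e))
      (Ψ.map (iterateFrobenius S p e)) (S ⧸ aa (pw G (fun _ => p ^ e)) Finset.univ)) := by
  classical
  set F := iterateFrobenius S p e with hF
  have hFd : ∀ x, F x = x ^ p ^ e := fun x => iterateFrobenius_def p e x
  have hflat : F.Flat := flat_iterateFrobenius p S (frobenius_flat_of_isRegularLocalRing p S) e
  have hFI : ∀ x ∈ aa G Finset.univ, F x ∈ aa (pw G (fun _ => p ^ e)) Finset.univ := by
    intro x hx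
    have : aa G Finset.univ ≤ Ideal.comap F (aa (pw G (fun _ => p ^ e)) Finset.univ) := by
      unfold aa
      rw [Ideal.span_le]
      rintro _ ⟨i, hi, rfl⟩
      change F (G i) ∈ aa (pw G (fun _ => p ^ e)) Finset.univ
      rw [hFd]
      exact mem_aa (G := pw G (fun _ => p ^ e)) hi
    exact this hx
  obtain ⟨z, hz0, hz⟩ := exists_socle hs
  obtain ⟨⟨z, hzΨ⟩, rfl⟩ := Submodule.Quotient.mk_surjective _ z
  obtain ⟨x, rfl⟩ := mk_surj_pi z
  -- the lifted class
  have hΨx : ∀ i, ∑ j, Ψ i j * x j ∈ aa G Finset.univ := by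
    intro i
    have h1 := congrFun hzΨ i
    rw [mv_mk, Pi.zero_apply, Submodule.Quotient.mk_eq_zero] at h1
    exact h1
  let z' : Fin b → S ⧸ aa (pw G (fun _ => p ^ e)) Finset.univ :=
    fun j => Submodule.Quotient.mk (F (x j))
  have hz' : z' ∈ LinearMap.ker (mv (Ψ.map F) (S ⧸ aa (pw G (fun _ => p ^ e)) Finset.univ)) := by
    rw [LinearMap.mem_ker]
    funext i
    rw [mv_mk, Pi.zero_apply, Submodule.Quotient.mk_eq_zero]
    have : ∑ j, (Ψ.map F) i j * F (x j) = F (∑ j, Ψ i j * x j) := by
      rw [map_sum]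
      exact Finset.sum_congr rfl fun j _ => by rw [Matrix.map_apply, map_mul]
    rw [this]
    exact hFI _ (hΨx i)
  refine (le_len_frob p hn e).trans (le_length_of_ann
    (Submodule.Quotient.mk ⟨z', hz'⟩ : H1 (Φ.map F) (Ψ.map F) _) _ ?_)
  intro r hr
  rw [← Submodule.Quotient.mk_smul, Submodule.Quotient.mk_eq_zero] at hr
  obtain ⟨y, hy⟩ := hr
  obtain ⟨y, rfl⟩ := mk_surj_pi y
  have hy' : mv (Φ.map F) (S ⧸ aa (pw G (fun _ => p ^ e)) Finset.univ)
      (fun k => Submodule.Quotient.mk (y k)) = r • z' := hy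
  -- the relation upstairs
  have h1 : ∀ i, ∃ w : ι → S, r * F (x i) - ∑ j, F (Φ i j) * y j = ∑ l, w l * F (G l) := by
    intro i
    have h2 := congrFun hy' i
    rw [mv_mk] at h2
    have h3 : (r • z') i = Submodule.Quotient.mk (r * F (x i)) := rfl
    rw [h3, eq_comm, Submodule.Quotient.eq] at h2
    have h4 : aa (pw G (fun _ => p ^ e)) Finset.univ =
        Ideal.span (Set.range (fun l => F (G l))) := by
      unfold aa
      rw [Finset.coe_univ, Set.image_univ]
      have h5 : pw G (fun _ => p ^ e) = fun l => F (G l) := funext fun l => (hFd (G l)).symm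
      rw [h5]
    rw [h4] at h2
    obtain ⟨w, hw⟩ := (Submodule.mem_span_range_iff_exists_fun S).mp h2
    exact ⟨w, hw.symm⟩
  choose w hw using h1
  -- apply flatness; unknowns: `r`, `y j`, `w i l`
  let A : Fin b → (Unit ⊕ Fin a ⊕ (Fin b × ι)) → S := fun i => Sum.elim (fun _ => x i)
    (Sum.elim (fun j => Φ i j) (fun il => if il.1 = i then G il.2 else 0))
  let Y : (Unit ⊕ Fin a ⊕ (Fin b × ι)) → S := Sum.elim (fun _ => r)
    (Sum.elim (fun j => - y j) (fun il => - w il.1 il.2))
  have hAY : ∀ i, ∑ l, F (A i l) * Y l = 0 := by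
    intro i
    simp only [Fintype.sum_sum_type, A, Y, Sum.elim_inl, Sum.elim_inr, Finset.univ_unique,
      Finset.sum_singleton, Fintype.sum_prod_type]
    rw [Finset.sum_eq_single i (f := fun x => ∑ x_1, F (if x = i then G x_1 else 0) * -w x x_1)]
    · have h5 := hw i
      simp only [if_true, mul_neg, Finset.sum_neg_distrib]
      have h6 : ∑ l, F (G l) * w i l = ∑ l, w i l * F (G l) :=
        Finset.sum_congr rfl fun l _ => mul_comm _ _
      rw [h6, ← h5]
      ring
    · intro j _ hj
      refine Finset.sum_eq_zero fun l _ => ?_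
      rw [if_neg hj, map_zero, zero_mul]
    · intro h; exact absurd (Finset.mem_univ _) h
  obtain ⟨k, s, y', hy1, hy2⟩ := flat_relation F hflat A Y hAY
  have hr : r = ∑ m, F (s (Sum.inl ()) m) * y' m := hy1 (Sum.inl ())
  rw [hr]
  refine Ideal.sum_mem _ fun m _ => Ideal.mul_mem_right _ _ (Ideal.mem_map_of_mem F ?_)
  -- `s (inl ()) m` is in the colon ideal, hence not a unit
  by_contra hnon
  have hunit : IsUnit (s (Sum.inl ()) m) := by
    by_contra h
    exact hnon ((mem_maximalIdeal _).mpr h)
  obtain ⟨v, hv⟩ := hunit.exists_left_inv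
  apply hz0
  rw [Submodule.Quotient.mk_eq_zero]
  refine ⟨fun j => Submodule.Quotient.mk (- (v * s (Sum.inr (Sum.inl j)) m)), ?_⟩
  funext i
  rw [mv_mk]
  change _ = (Submodule.Quotient.mk (x i) : S ⧸ aa G Finset.univ)
  rw [eq_comm, Submodule.Quotient.eq]
  have h7 := hy2 i m
  simp only [Fintype.sum_sum_type, A, Sum.elim_inl, Sum.elim_inr, Finset.univ_unique,
    Finset.sum_singleton, Fintype.sum_prod_type] at h7
  rw [Finset.sum_eq_single i (f := fun x => ∑ x_1, (if x = i then G x_1 else 0) *
    s (Sum.inr (Sum.inr (x, x_1))) m)] at h7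
  · have h8 : x i - ∑ j, Φ i j * -(v * s (Sum.inr (Sum.inl j)) m) =
        - (v * ∑ l, G l * s (Sum.inr (Sum.inr (i, l))) m) := by
      have e1 : x i = v * (x i * s (Sum.inl ()) m) := by
        calc x i = (v * s (Sum.inl ()) m) * x i := by rw [hv, one_mul]
          _ = _ := by ring
      have e2 : ∑ j, Φ i j * -(v * s (Sum.inr (Sum.inl j)) m) =
          - (v * ∑ j, Φ i j * s (Sum.inr (Sum.inl j)) m) := by
        rw [Finset.mul_sum, ← Finset.sum_neg_distrib]
        exact Finset.sum_congr rfl fun j _ => by ring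
      rw [e2]
      simp only [if_true] at h7
      have e3 : x i * s (Sum.inl default) m = - (∑ j, Φ i j * s (Sum.inr (Sum.inl j)) m) -
          ∑ l, G l * s (Sum.inr (Sum.inr (i, l))) m := by linear_combination h7
      rw [e1]
      change v * (x i * s (Sum.inl default) m) - _ = _
      rw [e3]
      ring
    rw [h8]
    refine neg_mem (Ideal.mul_mem_left _ _ (Ideal.sum_mem _ fun l _ =>
      Ideal.mul_mem_right _ _ (mem_aa (Finset.mem_univ l))))
  · intro j _ hj
    refine Finset.sum_eq_zero fun l _ => ?_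
    rw [if_neg hj, zero_mul]
  · intro h; exact absurd (Finset.mem_univ _) h

end

end Groth.Agent.Lefpen.H715.Frob
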