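import Groth.Agent.Lefpen.H715.RegA
import Mathlib.Algebra.CharP.Frobenius

/-!
The length of the homology of Frobenius powers of a presentation is bounded in terms of the dual
module only.
-/

set_option autoImplicit false
universe u

namespace Groth.Agent.Lefpen.H715.Kill

open IsLocalRing Groth.Agent.Lefpen.H715.LiftFree
  Groth.Agent.Lefpen.H715.Cplx Groth.Agent.Lefpen.H715.Bound Groth.Agent.Lefpen.H715.Pres
  Groth.Agent.Lefpen.H715.RegA

section

variable {S : Type*} [CommRing S] [IsLocalRing S] [IsNoetherianRing S]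

/-- Frobenius powers of an `m`-primary ideal are `m`-primary -/
theorem exists_pow_le_map (F : S →+* S) (q : ℕ) (hF : ∀ x, F x = x ^ q) (I : Ideal S) (N : ℕ)
    (h : maximalIdeal S ^ N ≤ I) : ∃ N' : ℕ, maximalIdeal S ^ N' ≤ I.map F := by
  refine Ideal.exists_pow_le_of_le_radical_of_fg (fun x hx => ?_) (IsNoetherian.noetherian _)
  refine ⟨N * q, ?_⟩
  rw [pow_mul, ← hF]
  exact Ideal.mem_map_of_mem F (h (Ideal.pow_mem_pow hx N))

variable {A : Type*} [CommRing A] [IsDomain A] [Algebra S A] {K : Type*} [Field K] [Algebra A K]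
  [IsFractionRing A K] [Algebra S K] [IsScalarTower S A K] {a b c : ℕ}

omit [IsLocalRing S] [IsNoetherianRing S] [IsDomain A] in
lemma algebraMap_smul_inj (r : S) (x : A) : algebraMap A K (r • x) = r • algebraMap A K x := by
  rw [Algebra.smul_def, map_mul, Algebra.smul_def, IsScalarTower.algebraMap_apply S A K]

/-- (finite length) a power of the maximal ideal kills the homology -/
theorem exists_pow_smul_H1 {j : Fin a → A} {Φ : Matrix (Fin b) (Fin a) S}
    {Ψ : Matrix (Fin c) (Fin b) S} (hP : Pres j Φ Ψ)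
    (hj : InvU S (fun k => algebraMap A K (j k))) (F : S →+* S) (q : ℕ) (hF : ∀ x, F x = x ^ q)
    (T : Type*) [AddCommGroup T] [Module S T] :
    ∃ N : ℕ, ∀ r ∈ maximalIdeal S ^ N, ∀ z : H1 (Φ.map F) (Ψ.map F) T, r • z = 0 := by
  obtain ⟨N, hN⟩ := hj
  obtain ⟨N', hN'⟩ := exists_pow_le_map F q hF _ N hN
  refine ⟨N', fun r hr z => ?_⟩
  have hle : Ideal.map F (Ideal.span {s : S | ∃ i, algebraMap A K (j i) ≠ 0 ∧
      ∀ k, ∃ c : S, s • algebraMap A K (j k) = c • algebraMap A K (j i)}) ≤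
      Module.annihilator S (H1 (Φ.map F) (Ψ.map F) T) := by
    rw [Ideal.map_span, Ideal.span_le]
    rintro _ ⟨s, ⟨i, hi, hs⟩, rfl⟩
    rw [SetLike.mem_coe, Module.mem_annihilator]
    intro z
    choose γ hγ using hs
    have hinj : Function.Injective (algebraMap A K) := IsFractionRing.injective A K
    obtain ⟨h₀, h₁, h⟩ := hP.homotopy s γ i (fun h => hi (by rw [h, map_zero])) (fun k => by
      apply hinj
      rw [algebraMap_smul_inj, algebraMap_smul_inj]
      exact hγ k)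
    exact smul_H1_eq_zero F s h₀ h₁ h T z
  exact Module.mem_annihilator.mp (hle (hN' hr)) z

end

section

variable {S : Type u} [CommRing S] [IsLocalRing S] [IsNoetherianRing S]
variable {A : Type u} [CommRing A] [IsDomain A] [Algebra S A] {K : Type*} [Field K] [Algebra A K]
  [IsFractionRing A K] [Algebra S K] [IsScalarTower S A K] {a b c : ℕ}

omit [IsLocalRing S] [IsNoetherianRing S] in
/-- a local generator gives a factorisation of the multiplication on the dual module through `A` -/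
theorem exists_factor {α : Type*} (u : α → K) (f : S) (i : α) (hi : u i ≠ 0)
    (hf : ∀ k, ∃ c : S, f • u k = c • u i) :
    ∃ (τ : dualM S A u →ₗ[S] A) (σ : A →ₗ[S] dualM S A u), ∀ x, σ (τ x) = f • x := by
  have hinj : Function.Injective (algebraMap A K) := IsFractionRing.injective A K
  let ιA : A →ₗ[S] K := (IsScalarTower.toAlgHom S A K).toLinearMap
  have hιA : ∀ x, ιA x = algebraMap A K x := fun x => rfl
  let e : A ≃ₗ[S] LinearMap.range ιA := LinearEquiv.ofInjective ιA hinj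
  let τ0 : dualM S A u →ₗ[S] K := (LinearMap.mulRight S (u i)).comp (dualM S A u).subtype
  have hτ0 : ∀ z, τ0 z ∈ LinearMap.range ιA := by
    intro z
    obtain ⟨x, hx⟩ := z.2 i
    exact ⟨x, hx⟩
  let τ : dualM S A u →ₗ[S] A := e.symm.toLinearMap.comp (τ0.codRestrict _ hτ0)
  have hτ : ∀ z, algebraMap A K (τ z) = z.1 * u i := by
    intro z
    have : e (τ z) = ⟨τ0 z, hτ0 z⟩ := e.apply_symm_apply _
    exact congrArg Subtype.val this
  let σ0 : A →ₗ[S] K := (LinearMap.mulRight S ((f • (1 : K)) * (u i)⁻¹)).comp ιA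
  have hσ0 : ∀ x, σ0 x = algebraMap A K x * ((f • (1 : K)) * (u i)⁻¹) := fun x => rfl
  have hσ0' : ∀ x, σ0 x ∈ dualM S A u := by
    intro x k
    obtain ⟨c, hc⟩ := hf k
    refine ⟨c • x, ?_⟩
    rw [algebraMap_smul_inj, hσ0]
    have h1 : (f • (1 : K)) * u k = c • u i := by rw [Algebra.smul_mul_assoc, one_mul, hc]
    calc c • algebraMap A K x = algebraMap A K x * (c • u i) * (u i)⁻¹ := by
          rw [Algebra.mul_smul_comm, Algebra.smul_mul_assoc, mul_assoc, mul_inv_cancel₀ hi, mul_one]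
      _ = _ := by rw [← h1]; ring
  refine ⟨τ, σ0.codRestrict _ hσ0', fun z => ?_⟩
  apply Subtype.ext
  change σ0 (τ z) = f • z.1
  rw [hσ0, hτ]
  calc z.1 * u i * (f • (1 : K) * (u i)⁻¹) = (f • (1 : K)) * z.1 * (u i * (u i)⁻¹) := by ring
    _ = _ := by rw [mul_inv_cancel₀ hi, mul_one, Algebra.smul_mul_assoc, one_mul]

/-- the homology is killed by the ideal of local generators of the tuple `u` whose dual module is
the kernel -/
theorem smul_H1_eq_zero_of_equiv {Φ : Matrix (Fin b) (Fin a) S} {Ψ : Matrix (Fin c) (Fin b) S}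
    (hreg : ∀ N : ℕ, ∃ F₀ F₁ F₂ : S, F₀ ∈ maximalIdeal S ^ N ∧ F₁ ∈ maximalIdeal S ^ N ∧
      F₂ ∈ maximalIdeal S ^ N ∧ Reg3 A F₀ F₁ F₂)
    (hN : ∃ N : ℕ, ∀ r ∈ maximalIdeal S ^ N, ∀ z : H1 Φ Ψ A, r • z = 0)
    {α : Type*} (u : α → K) (θ : LinearMap.ker (mv Φ A) ≃ₗ[S] dualM S A u)
    (f : S) (i : α) (hi : u i ≠ 0) (hf : ∀ k, ∃ c : S, f • u k = c • u i) (z : H1 Φ Ψ A) :
    f • z = 0 := by
  obtain ⟨N, hN⟩ := hN
  obtain ⟨F₀, F₁, F₂, h0, h1, h2, hF⟩ := hreg N
  obtain ⟨τ, σ, hστ⟩ := exists_factor (A := A) u f i hi hf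
  obtain ⟨⟨x, hx⟩, rfl⟩ := Submodule.Quotient.mk_surjective _ z
  have key : ∀ r ∈ maximalIdeal S ^ N, ∃ y, mv Φ A y = r • x := by
    intro r hr
    have h3 := hN r hr (Submodule.Quotient.mk ⟨x, hx⟩)
    rw [← Submodule.Quotient.mk_smul, Submodule.Quotient.mk_eq_zero] at h3
    obtain ⟨y, hy⟩ := h3
    exact ⟨y, hy⟩
  obtain ⟨y₀, hy₀⟩ := key F₀ h0
  obtain ⟨y₁, hy₁⟩ := key F₁ h1
  obtain ⟨y₂, hy₂⟩ := key F₂ h2
  obtain ⟨y, hy⟩ := kill Φ hF f (τ.comp θ.toLinearMap) (θ.symm.toLinearMap.comp σ) (fun x => by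
    change θ.symm (σ (τ (θ x))) = f • x
    rw [hστ, map_smul, θ.symm_apply_apply]) x y₀ y₁ y₂ hy₀ hy₁ hy₂
  rw [← Submodule.Quotient.mk_smul, Submodule.Quotient.mk_eq_zero]
  exact ⟨y, hy⟩

/-- the uniform bound -/
theorem length_H1_le {Φ : Matrix (Fin b) (Fin a) S} {Ψ : Matrix (Fin c) (Fin b) S}
    (hreg : ∀ N : ℕ, ∃ F₀ F₁ F₂ : S, F₀ ∈ maximalIdeal S ^ N ∧ F₁ ∈ maximalIdeal S ^ N ∧
      F₂ ∈ maximalIdeal S ^ N ∧ Reg3 A F₀ F₁ F₂)
    (hN : ∃ N : ℕ, ∀ r ∈ maximalIdeal S ^ N, ∀ z : H1 Φ Ψ A, r • z = 0)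
    {α : Type*} (u : α → K) (θ : LinearMap.ker (mv Φ A) ≃ₗ[S] dualM S A u) (N : ℕ)
    (hu : maximalIdeal S ^ N ≤ Ideal.span {s : S | ∃ i, u i ≠ 0 ∧ ∀ k, ∃ c : S, s • u k = c • u i})
    (F₀ F₁ : S) (h0 : F₀ ∈ maximalIdeal S ^ N) (h1 : F₁ ∈ maximalIdeal S ^ N)
    (hF : Reg2 A F₀ F₁) :
    Module.length S (H1 Φ Ψ A) ≤ BB (maximalIdeal S ^ N) F₀ F₁ (dualM S A u) := by
  have hle : Ideal.span {s : S | ∃ i, u i ≠ 0 ∧ ∀ k, ∃ c : S, s • u k = c • u i} ≤
      Module.annihilator S (H1 Φ Ψ A) := by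
    rw [Ideal.span_le]
    rintro s ⟨i, hi, hs⟩
    rw [SetLike.mem_coe, Module.mem_annihilator]
    exact fun z => smul_H1_eq_zero_of_equiv hreg hN u θ s i hi hs z
  refine (length_H1_le_BB Φ Ψ hF h0 h1 (fun r hr z =>
    Module.mem_annihilator.mp (hle (hu hr)) z)).trans ?_
  exact BB_le_of_equiv θ _ _ _

/-- the dual module is finitely generated -/
theorem finite_dualM (hsurj : Function.Surjective (algebraMap S A)) {α : Type*} (u : α → K) (i : α)
    (hi : u i ≠ 0) : Module.Finite S (dualM S A u) := by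
  obtain ⟨x, hx⟩ : ∃ x : A, True := ⟨0, trivial⟩
  let ιA : A →ₗ[S] K := (IsScalarTower.toAlgHom S A K).toLinearMap
  have hfinA : Module.Finite S A := Module.Finite.of_surjective (Algebra.linearMap S A) hsurj
  let f : dualM S A u →ₗ[S] K := (LinearMap.mulRight S (u i)).comp (dualM S A u).subtype
  have hf : Function.Injective f := by
    intro x y hxy
    apply Subtype.ext
    exact mul_right_cancel₀ hi hxy
  have hr : ∀ z, f z ∈ LinearMap.range ιA := by
    intro z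
    obtain ⟨x, hx⟩ := z.2 i
    exact ⟨x, hx⟩
  have : IsNoetherian S (LinearMap.range ιA) := inferInstance
  exact Module.Finite.of_injective (f.codRestrict _ hr) (fun x y hxy => hf (congrArg Subtype.val hxy))

end

end Groth.Agent.Lefpen.H715.Kill
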