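import Groth.Agent.CalgA.RegAB
import Mathlib.RingTheory.LocalRing.Module
import Mathlib.Algebra.Module.Torsion.Basic

/-!
Lemma L of the elementary local Noether-Lefschetz step: over a regular local ring `S` with a
sequence `G_i` (permutably regular), a finite module over `S/(G_i : i ∈ s)` of maximal depth which lifts to
first order in every direction `G_i`, `i ∈ s`, is free over `S/(G_i : i ∈ s)`.
-/

set_option autoImplicit false
universe u

namespace Groth.Agent.Lefpen.H715.LiftFree

open IsLocalRing Groth.Agent.CalgB.DepthLite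
open scoped Pointwise

variable {S : Type u} [CommRing S] {ι : Type*}

/-- the ideal generated by the `G_j`, `j ∈ s`. -/
def aa (G : ι → S) (s : Finset ι) : Ideal S := Ideal.span (G '' (s : Set ι))

lemma mem_aa {G : ι → S} {s : Finset ι} {j : ι} (hj : j ∈ s) : G j ∈ aa G s :=
  Ideal.subset_span ⟨j, hj, rfl⟩

lemma aa_mono {G : ι → S} {s t : Finset ι} (h : s ⊆ t) : aa G s ≤ aa G t :=
  Ideal.span_mono (Set.image_mono (by exact_mod_cast h))

lemma aa_insert [DecidableEq ι] (G : ι → S) (s : Finset ι) (i : ι) :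
    aa G (insert i s) = Ideal.span {G i} ⊔ aa G s := by
  unfold aa
  rw [Finset.coe_insert, Set.image_insert_eq, Ideal.span_insert]

lemma aa_empty (G : ι → S) : aa G ∅ = ⊥ := by
  unfold aa
  simp

lemma aa_smul_eq_zero {G : ι → S} {s : Finset ι} {N : Type*} [AddCommGroup N] [Module S N]
    (h : ∀ j ∈ s, ∀ x : N, G j • x = 0) {r : S} (hr : r ∈ aa G s) (x : N) : r • x = 0 := by
  have : aa G s ≤ Module.annihilator S N := by
    unfold aa
    rw [Ideal.span_le]
    rintro _ ⟨j, hj, rfl⟩
    exact Module.mem_annihilator.mpr (h j hj)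
  exact Module.mem_annihilator.mp (this hr) x

/-- permutable regularity -/
def PReg (G : ι → S) : Prop :=
  ∀ (t : Finset ι) (i : ι), i ∉ t → ∀ x : S, G i * x ∈ aa G t → x ∈ aa G t

/-- first order liftability of the module `N` (killed by `G_j`, `j ∈ s`) in the direction `G_i`. -/
def Liftable (G : ι → S) (s : Finset ι) (N : Type u) [AddCommGroup N] [Module S N] (i : ι) : Prop :=
  ∃ (L : Type u) (_ : AddCommGroup L) (_ : Module S L) (α : N →ₗ[S] L) (β : L →ₗ[S] N),
    Function.Injective α ∧ Function.Surjective β ∧ Function.Exact α β ∧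
    (∀ x, α (β x) = G i • x) ∧ (∀ j ∈ s, j ≠ i → ∀ x : L, G j • x = 0)

/-- linear maps out of `(S/I)^b` -/
lemma exists_lift_pi {I : Ideal S} {b : ℕ} {L : Type*} [AddCommGroup L] [Module S L]
    (hL : ∀ r ∈ I, ∀ x : L, r • x = 0) (v : Fin b → L) :
    ∃ φ : (Fin b → S ⧸ I) →ₗ[S] L, ∀ y : Fin b → S,
      φ (fun k => Submodule.Quotient.mk (y k)) = ∑ k, y k • v k := by
  let ψ : Fin b → (S ⧸ I) →ₗ[S] L := fun k =>
    Submodule.liftQ I (LinearMap.toSpanSingleton S L (v k)) (fun r hr => by
      rw [LinearMap.mem_ker, LinearMap.toSpanSingleton_apply]; exact hL r hr _)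
  refine ⟨∑ k, (ψ k).comp (LinearMap.proj k), fun y => ?_⟩
  rw [LinearMap.sum_apply]
  exact Finset.sum_congr rfl fun k _ => rfl

lemma pi_expand {I : Ideal S} {b : ℕ} {N : Type*} [AddCommGroup N] [Module S N]
    (π : (Fin b → S ⧸ I) →ₗ[S] N) (y : Fin b → S) :
    π (fun k => Submodule.Quotient.mk (y k)) =
      ∑ k, y k • π (Pi.single k (Submodule.Quotient.mk 1)) := by
  simp only [← map_smul, ← map_sum]
  congr 1
  funext k
  rw [Finset.sum_apply, Finset.sum_eq_single k]
  · rw [Pi.smul_apply, Pi.single_eq_same, ← Submodule.Quotient.mk_smul, smul_eq_mul, mul_one]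
  · intro l _ hl
    rw [Pi.smul_apply, Pi.single_eq_of_ne (Ne.symm hl), smul_zero]
  · intro h; exact absurd (Finset.mem_univ _) h

lemma mk_surj_pi {I : Ideal S} {b : ℕ} (x : Fin b → S ⧸ I) :
    ∃ y : Fin b → S, x = fun k => Submodule.Quotient.mk (y k) := by
  choose y hy using fun k => Submodule.Quotient.mk_surjective I (x k)
  exact ⟨y, funext fun k => (hy k).symm⟩

section EV

variable [IsLocalRing S] [IsNoetherianRing S]

omit [IsNoetherianRing S] in
/-- depth of the quotient by a part of the sequence -/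
theorem EV_quot {G : ι → S} [DecidableEq ι] (hG : PReg G) {n : ℕ}
    (hn : EV (kk S) (ModuleCat.of S S) n) (s : Finset ι) :
    ∀ m : ℕ, m + s.card = n → EV (kk S) (ModuleCat.of S (S ⧸ aa G s)) m := by
  induction s using Finset.induction_on with
  | empty =>
    intro m hm
    have e : S ≃ₗ[S] (S ⧸ aa G (∅ : Finset ι)) :=
      (Submodule.quotEquivOfEqBot (aa G ∅) (aa_empty G)).symm
    refine EV.equiv e ?_
    rw [Finset.card_empty, add_zero] at hm
    rw [hm]
    exact hn
  | insert i s hi ih =>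
    intro m hm
    rw [Finset.card_insert_of_notMem hi] at hm
    have h1 := ih (m + 1) (by omega)
    have hle : aa G s ≤ Submodule.comap (LinearMap.lsmul S S (G i)) (aa G s) := by
      intro x hx
      exact Ideal.mul_mem_left _ _ hx
    let f : (S ⧸ aa G s) →ₗ[S] (S ⧸ aa G s) := Submodule.mapQ _ _ (LinearMap.lsmul S S (G i)) hle
    let g : (S ⧸ aa G s) →ₗ[S] (S ⧸ aa G (insert i s)) :=
      Submodule.factor (aa_mono (Finset.subset_insert i s))
    have hf : Function.Injective f := by
      rw [injective_iff_map_eq_zero]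
      intro x
      obtain ⟨x, rfl⟩ := Submodule.Quotient.mk_surjective _ x
      intro hx
      change Submodule.mapQ _ _ _ _ (Submodule.Quotient.mk x) = 0 at hx
      rw [Submodule.mapQ_apply, Submodule.Quotient.mk_eq_zero] at hx
      rw [Submodule.Quotient.mk_eq_zero]
      exact hG s i hi x hx
    have hg : Function.Surjective g := Submodule.factor_surjective _
    have hfg : Function.Exact f g := by
      intro x
      obtain ⟨x, rfl⟩ := Submodule.Quotient.mk_surjective _ x
      change (Submodule.Quotient.mk x : S ⧸ aa G (insert i s)) = 0 ↔ _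
      rw [Submodule.Quotient.mk_eq_zero, aa_insert, Submodule.mem_sup]
      constructor
      · rintro ⟨y, hy, z, hz, rfl⟩
        obtain ⟨c, rfl⟩ := Ideal.mem_span_singleton'.mp hy
        refine ⟨Submodule.Quotient.mk c, ?_⟩
        change Submodule.mapQ _ _ _ _ (Submodule.Quotient.mk c) = _
        rw [Submodule.mapQ_apply, Submodule.Quotient.eq]
        change G i * c - (c * G i + z) ∈ aa G s
        have : G i * c - (c * G i + z) = - z := by ring
        rw [this]
        exact neg_mem hz
      · rintro ⟨y, hy⟩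
        obtain ⟨y, rfl⟩ := Submodule.Quotient.mk_surjective _ y
        change Submodule.mapQ _ _ _ _ (Submodule.Quotient.mk y) = _ at hy
        rw [Submodule.mapQ_apply, Submodule.Quotient.eq] at hy
        change G i * y - x ∈ aa G s at hy
        refine ⟨G i * y, Ideal.mul_mem_right _ _ (Ideal.mem_span_singleton_self _), x - G i * y,
          ?_, by ring⟩
        rw [← neg_sub]
        exact neg_mem hy
    exact EV.right' hf hfg hg h1 (h1.mono (by omega))

end EV

section Step

variable {G : ι → S} [DecidableEq ι] {t : Finset ι} {a : ι} {N : Type u} [AddCommGroup N]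
  [Module S N] {b : ℕ} (π : (Fin b → S ⧸ aa G t) →ₗ[S] N) (hπ : Function.Surjective π)

include hπ

/-- the kernel of a presentation is again liftable -/
theorem liftable_ker (hG : PReg G)
    {i : ι} (hi : i ∈ t)
    (hL : Liftable G (insert a t) N i) : Liftable G t (LinearMap.ker π) i := by
  obtain ⟨L, _, _, α, β, hα, hβ, hαβ, hcomp, hkill⟩ := hL
  -- the ideal `(G_i ^ 2, G_j : j ∈ t \ i)`
  let J : Ideal S := Ideal.span {G i * G i} ⊔ aa G (t.erase i)
  have hJt : J ≤ aa G t := by
    refine sup_le ?_ (aa_mono (Finset.erase_subset i t))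
    rw [Ideal.span_singleton_le_iff_mem]
    exact Ideal.mul_mem_left _ _ (mem_aa hi)
  have htJ : ∀ x, x ∈ aa G t → G i * x ∈ J := by
    intro x hx
    rw [← Finset.insert_erase hi, aa_insert, Submodule.mem_sup] at hx
    obtain ⟨y, hy, z, hz, rfl⟩ := hx
    obtain ⟨c, rfl⟩ := Ideal.mem_span_singleton'.mp hy
    have : G i * (c * G i + z) = c * (G i * G i) + G i * z := by ring
    rw [this]
    refine add_mem (Ideal.mul_mem_left _ _ (Submodule.mem_sup_left
      (Ideal.mem_span_singleton_self _))) ?_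
    exact Submodule.mem_sup_right (Ideal.mul_mem_left _ _ hz)
  have hJinj : ∀ x, G i * x ∈ J → x ∈ aa G t := by
    intro x hx
    obtain ⟨y, hy, z, hz, hyz⟩ := Submodule.mem_sup.mp hx
    obtain ⟨c, rfl⟩ := Ideal.mem_span_singleton'.mp hy
    have h1 : G i * (x - c * G i) ∈ aa G (t.erase i) := by
      have : G i * (x - c * G i) = z := by rw [mul_sub, ← hyz]; ring
      rw [this]; exact hz
    have h2 := hG (t.erase i) i (Finset.notMem_erase i t) _ h1
    have : x = c * G i + (x - c * G i) := by ring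
    rw [this]
    exact add_mem (Ideal.mul_mem_left _ _ (mem_aa hi)) (aa_mono (Finset.erase_subset i t) h2)
  -- `L` is killed by `J`
  have hLJ : ∀ r ∈ J, ∀ x : L, r • x = 0 := by
    intro r hr x
    obtain ⟨y, hy, z, hz, rfl⟩ := Submodule.mem_sup.mp hr
    obtain ⟨c, rfl⟩ := Ideal.mem_span_singleton'.mp hy
    rw [add_smul]
    have h1 : (c * (G i * G i)) • x = 0 := by
      rw [mul_smul, mul_smul, ← hcomp (x := x), ← hcomp, hαβ.apply_apply_eq_zero, map_zero,
        smul_zero]
    have h2 : z • x = 0 := by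
      refine aa_smul_eq_zero (s := t.erase i) (fun j hj y => ?_) hz x
      exact hkill j (Finset.mem_insert_of_mem (Finset.mem_of_mem_erase hj)) (Finset.ne_of_mem_erase hj) y
    rw [h1, h2, add_zero]
  -- the lifted presentation
  choose v hv using fun k : Fin b => hβ (π (Pi.single k (Submodule.Quotient.mk 1)))
  obtain ⟨Pt, hPt⟩ := exists_lift_pi hLJ v
  -- projection and multiplication by `G i`
  let pr : (Fin b → S ⧸ J) →ₗ[S] (Fin b → S ⧸ aa G t) :=
    LinearMap.compLeft (Submodule.factor hJt) (Fin b)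
  have hle : aa G t ≤ Submodule.comap (LinearMap.lsmul S S (G i)) J := fun x hx => htJ x hx
  let mu : (Fin b → S ⧸ aa G t) →ₗ[S] (Fin b → S ⧸ J) :=
    LinearMap.compLeft (Submodule.mapQ _ _ (LinearMap.lsmul S S (G i)) hle) (Fin b)
  have hpr : ∀ y : Fin b → S, pr (fun k => Submodule.Quotient.mk (y k)) =
      fun k => Submodule.Quotient.mk (y k) := fun y => rfl
  have hmu : ∀ y : Fin b → S, mu (fun k => Submodule.Quotient.mk (y k)) =
      fun k => Submodule.Quotient.mk (G i * y k) := fun y => rfl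
  -- compatibilities
  have hβPt : ∀ z, β (Pt z) = π (pr z) := by
    intro z
    obtain ⟨y, rfl⟩ := mk_surj_pi z
    rw [hPt, hpr, pi_expand, map_sum]
    exact Finset.sum_congr rfl fun k _ => by rw [map_smul, hv]
  have hPtmu : ∀ z, Pt (mu z) = α (π z) := by
    intro z
    obtain ⟨y, rfl⟩ := mk_surj_pi z
    rw [hmu, hPt, pi_expand, map_sum]
    refine Finset.sum_congr rfl fun k _ => ?_
    rw [map_smul, ← hv, hcomp, smul_smul, mul_comm]
  have hmuinj : Function.Injective mu := by
    rw [injective_iff_map_eq_zero]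
    intro z hz
    obtain ⟨y, rfl⟩ := mk_surj_pi z
    rw [hmu] at hz
    funext k
    have := congrFun hz k
    rw [Pi.zero_apply, Submodule.Quotient.mk_eq_zero] at this
    rw [Pi.zero_apply, Submodule.Quotient.mk_eq_zero]
    exact hJinj _ this
  have hprmu : ∀ z, pr (mu z) = 0 := by
    intro z
    obtain ⟨y, rfl⟩ := mk_surj_pi z
    rw [hmu, hpr]
    funext k
    rw [Pi.zero_apply, Submodule.Quotient.mk_eq_zero]
    exact Ideal.mul_mem_right _ _ (mem_aa hi)
  have hmupr : ∀ z, mu (pr z) = G i • z := by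
    intro z
    obtain ⟨y, rfl⟩ := mk_surj_pi z
    rw [hpr, hmu]
    rfl
  have hprker : ∀ z, pr z = 0 → ∃ w, mu w = z := by
    intro z hz
    obtain ⟨y, rfl⟩ := mk_surj_pi z
    rw [hpr] at hz
    have hy : ∀ k, ∃ c, G i * c - y k ∈ J := by
      intro k
      have := congrFun hz k
      rw [Pi.zero_apply, Submodule.Quotient.mk_eq_zero, ← Finset.insert_erase hi, aa_insert,
        Submodule.mem_sup] at this
      obtain ⟨u, hu, w, hw, huw⟩ := this
      obtain ⟨c, rfl⟩ := Ideal.mem_span_singleton'.mp hu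
      refine ⟨c, ?_⟩
      have : G i * c - y k = - w := by rw [← huw]; ring
      rw [this]
      exact Submodule.mem_sup_right (neg_mem hw)
    choose c hc using hy
    refine ⟨fun k => Submodule.Quotient.mk (c k), ?_⟩
    rw [hmu]
    funext k
    rw [Submodule.Quotient.eq]
    exact hc k
  have hprsurj : Function.Surjective pr := by
    intro z
    obtain ⟨y, rfl⟩ := mk_surj_pi z
    exact ⟨fun k => Submodule.Quotient.mk (y k), hpr y⟩
  -- the lift of the kernel
  let αK : LinearMap.ker π →ₗ[S] LinearMap.ker Pt :=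
    mu.restrict (fun z hz => by
      rw [LinearMap.mem_ker] at hz ⊢
      rw [hPtmu, hz, map_zero])
  let βK : LinearMap.ker Pt →ₗ[S] LinearMap.ker π :=
    pr.restrict (fun z hz => by
      rw [LinearMap.mem_ker] at hz ⊢
      rw [← hβPt, hz, map_zero])
  refine ⟨LinearMap.ker Pt, inferInstance, inferInstance, αK, βK, ?_, ?_, ?_, ?_, ?_⟩
  · intro x y hxy
    apply Subtype.ext
    apply hmuinj
    exact congrArg Subtype.val hxy
  · rintro ⟨x, hx⟩
    obtain ⟨z, rfl⟩ := hprsurj x
    rw [LinearMap.mem_ker] at hx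
    rw [← hβPt] at hx
    obtain ⟨n, hn⟩ := (hαβ _).mp hx
    obtain ⟨f, rfl⟩ := hπ n
    refine ⟨⟨z - mu f, ?_⟩, ?_⟩
    · rw [LinearMap.mem_ker, map_sub, hPtmu, hn, sub_self]
    · apply Subtype.ext
      change pr (z - mu f) = pr z
      rw [map_sub, hprmu, sub_zero]
  · rintro ⟨x, hx⟩
    constructor
    · intro h
      have h1 : pr x = 0 := congrArg Subtype.val h
      obtain ⟨w, rfl⟩ := hprker x h1
      rw [LinearMap.mem_ker, hPtmu] at hx
      refine ⟨⟨w, ?_⟩, rfl⟩
      rw [LinearMap.mem_ker]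
      exact hα (by rw [hx, map_zero])
    · rintro ⟨w, hw⟩
      apply Subtype.ext
      change pr x = 0
      have : mu w.1 = x := congrArg Subtype.val hw
      rw [← this, hprmu]
  · rintro ⟨x, hx⟩
    apply Subtype.ext
    exact hmupr x
  · rintro j hj hji ⟨x, hx⟩
    apply Subtype.ext
    change G j • x = 0
    obtain ⟨y, rfl⟩ := mk_surj_pi x
    funext k
    change (Submodule.Quotient.mk (G j • y k) : S ⧸ J) = 0
    rw [Submodule.Quotient.mk_eq_zero]
    exact Ideal.mul_mem_right _ _ (Submodule.mem_sup_right (mem_aa (Finset.mem_erase.mpr ⟨hji, hj⟩)))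

/-- the module is a retract of `K / G_a K` -/
theorem exists_retract (hN : ∀ j ∈ insert a t, ∀ x : N, G j • x = 0)
    (ha : a ∉ t) (hL : Liftable G (insert a t) N a) :
    ∃ (ρ : (LinearMap.ker π ⧸ (G a • (⊤ : Submodule S (LinearMap.ker π)))) →ₗ[S] N)
      (σ : N →ₗ[S] (LinearMap.ker π ⧸ (G a • (⊤ : Submodule S (LinearMap.ker π))))),
      ρ ∘ₗ σ = LinearMap.id := by
  obtain ⟨L, _, _, α, β, hα, hβ, hαβ, hcomp, hkill⟩ := hL
  have hLJ : ∀ r ∈ aa G t, ∀ x : L, r • x = 0 := by
    intro r hr x
    refine aa_smul_eq_zero (s := t) (fun j hj y => ?_) hr x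
    exact hkill j (Finset.mem_insert_of_mem hj) (fun h => ha (h ▸ hj)) y
  choose v hv using fun k : Fin b => hβ (π (Pi.single k (Submodule.Quotient.mk 1)))
  obtain ⟨Pt, hPt⟩ := exists_lift_pi hLJ v
  have hβPt : ∀ z, β (Pt z) = π z := by
    intro z
    obtain ⟨y, rfl⟩ := mk_surj_pi z
    rw [hPt, pi_expand, map_sum]
    exact Finset.sum_congr rfl fun k _ => by rw [map_smul, hv]
  -- the map `ρ`
  let e : N ≃ₗ[S] LinearMap.range α := LinearEquiv.ofInjective α hα
  have hPtr : ∀ z : LinearMap.ker π, (Pt.comp (LinearMap.ker π).subtype) z ∈ LinearMap.range α := by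
    rintro ⟨z, hz⟩
    rw [LinearMap.mem_ker] at hz
    change Pt z ∈ LinearMap.range α
    rw [LinearMap.mem_range]
    exact (hαβ _).mp (by rw [hβPt, hz])
  let ρ0 : LinearMap.ker π →ₗ[S] N :=
    e.symm.toLinearMap.comp ((Pt.comp (LinearMap.ker π).subtype).codRestrict _ hPtr)
  have hρ0 : ∀ z : LinearMap.ker π, α (ρ0 z) = Pt z.1 := by
    intro z
    have : e (ρ0 z) = ⟨Pt z.1, hPtr z⟩ := e.apply_symm_apply _
    exact congrArg Subtype.val this
  have hρ0ker : (G a • (⊤ : Submodule S (LinearMap.ker π))) ≤ LinearMap.ker ρ0 := by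
    intro z hz
    rw [Submodule.mem_smul_pointwise_iff_exists] at hz
    obtain ⟨w, -, rfl⟩ := hz
    rw [LinearMap.mem_ker, map_smul]
    exact hN a (Finset.mem_insert_self a t) _
  let ρ := Submodule.liftQ _ ρ0 hρ0ker
  -- the map `σ`
  have hmem : ∀ f : Fin b → S ⧸ aa G t, G a • f ∈ LinearMap.ker π := by
    intro f
    rw [LinearMap.mem_ker, map_smul]
    exact hN a (Finset.mem_insert_self a t) _
  let σ0 : (Fin b → S ⧸ aa G t) →ₗ[S] LinearMap.ker π :=
    LinearMap.codRestrict _ (LinearMap.lsmul S _ (G a)) hmem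
  let σ1 : (Fin b → S ⧸ aa G t) →ₗ[S]
      (LinearMap.ker π ⧸ (G a • (⊤ : Submodule S (LinearMap.ker π)))) :=
    (Submodule.mkQ _).comp σ0
  have hσ1 : LinearMap.ker π ≤ LinearMap.ker σ1 := by
    intro f hf
    rw [LinearMap.mem_ker]
    change Submodule.Quotient.mk (σ0 f) = _
    rw [Submodule.Quotient.mk_eq_zero, Submodule.mem_smul_pointwise_iff_exists]
    exact ⟨⟨f, hf⟩, trivial, Subtype.ext rfl⟩
  let e2 : ((Fin b → S ⧸ aa G t) ⧸ LinearMap.ker π) ≃ₗ[S] N := π.quotKerEquivOfSurjective hπ
  let σ : N →ₗ[S] (LinearMap.ker π ⧸ (G a • (⊤ : Submodule S (LinearMap.ker π)))) :=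
    (Submodule.liftQ _ σ1 hσ1).comp e2.symm.toLinearMap
  refine ⟨ρ, σ, ?_⟩
  ext y
  obtain ⟨f, rfl⟩ := hπ y
  have h1 : e2.symm (π f) = Submodule.Quotient.mk f := by
    rw [LinearEquiv.symm_apply_eq]
    rfl
  change ρ ((Submodule.liftQ _ σ1 hσ1) (e2.symm (π f))) = π f
  rw [h1]
  change ρ (Submodule.Quotient.mk (σ0 f)) = π f
  change ρ0 (σ0 f) = π f
  apply hα
  rw [hρ0]
  change Pt (G a • f) = _
  rw [map_smul, ← hcomp, hβPt]

end Step

section Main

variable [IsRegularLocalRing S]

omit [IsRegularLocalRing S] in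
/-- presentations over `S/𝔞` -/
lemma exists_presentation {I : Ideal S} {N : Type*} [AddCommGroup N] [Module S N]
    [Module.Finite S N] (hN : ∀ r ∈ I, ∀ x : N, r • x = 0) :
    ∃ (b : ℕ) (π : (Fin b → S ⧸ I) →ₗ[S] N), Function.Surjective π := by
  obtain ⟨b, v, hv⟩ := Module.Finite.exists_fin (R := S) (M := N)
  obtain ⟨π, hπ⟩ := exists_lift_pi hN v
  refine ⟨b, π, fun x => ?_⟩
  have hx : x ∈ Submodule.span S (Set.range v) := by rw [hv]; trivial
  rw [Submodule.mem_span_range_iff_exists_fun] at hx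
  obtain ⟨c, rfl⟩ := hx
  exact ⟨fun k => Submodule.Quotient.mk (c k), hπ c⟩

omit [IsRegularLocalRing S] in
/-- a retract of `(S/I)^b` is `(S/I)^b'` when `S` is local -/
lemma free_of_retract [IsLocalRing S] {I : Ideal S} (hI : I ≤ maximalIdeal S) {N : Type*}
    [AddCommGroup N] [Module S N] {b : ℕ}
    (σ : N →ₗ[S] (Fin b → S ⧸ I)) (ρ : (Fin b → S ⧸ I) →ₗ[S] N) (h : ρ ∘ₗ σ = LinearMap.id) :
    ∃ b' : ℕ, Nonempty (N ≃ₗ[S] (Fin b' → S ⧸ I)) := by
  have hρσ : ∀ x, ρ (σ x) = x := fun x => LinearMap.congr_fun h x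
  have hN : Module.IsTorsionBySet S N I := by
    rintro x ⟨r, hr⟩
    change r • x = 0
    rw [← hρσ x, ← map_smul]
    have : r • σ x = 0 := by
      obtain ⟨y, hy⟩ := mk_surj_pi (σ x)
      rw [hy]
      funext k
      change (Submodule.Quotient.mk (r • y k) : S ⧸ I) = 0
      rw [Submodule.Quotient.mk_eq_zero]
      exact Ideal.mul_mem_right _ _ hr
    rw [this, map_zero]
  let _ : Module (S ⧸ I) N := Module.IsTorsionBySet.module hN
  have hst : IsScalarTower S (S ⧸ I) N := Module.IsTorsionBySet.isScalarTower hN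
  have hsurj : Function.Surjective (algebraMap S (S ⧸ I)) := Ideal.Quotient.mk_surjective
  let σ' : N →ₗ[S ⧸ I] (Fin b → S ⧸ I) := LinearMap.extendScalarsOfSurjective hsurj σ
  let ρ' : (Fin b → S ⧸ I) →ₗ[S ⧸ I] N := LinearMap.extendScalarsOfSurjective hsurj ρ
  have h' : ρ' ∘ₗ σ' = LinearMap.id := by
    ext x
    exact hρσ x
  have hproj : Module.Projective (S ⧸ I) N := Module.Projective.of_split σ' ρ' h'
  have hfin : Module.Finite (S ⧸ I) N := Module.Finite.of_surjective ρ'
    (fun x => ⟨σ' x, hρσ x⟩)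
  have hne : I ≠ ⊤ := fun h => by
    have h1 := maximalIdeal.isMaximal S
    exact h1.ne_top (top_le_iff.mp (h ▸ hI))
  have : Nontrivial (S ⧸ I) := Ideal.Quotient.nontrivial_iff.mpr hne
  have : IsLocalRing (S ⧸ I) := IsLocalRing.of_surjective' (Ideal.Quotient.mk I) hsurj
  have hfree : Module.Free (S ⧸ I) N := Module.free_of_flat_of_isLocalRing
  exact ⟨_, ⟨(Module.finBasis (S ⧸ I) N).equivFun.restrictScalars S⟩⟩

/-- a regular local ring has depth equal to its dimension -/
theorem EV_self {n : ℕ} (hn : ringKrullDim S = n) : EV (kk S) (ModuleCat.of S S) n := by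
  have hreg := IsRegularLocalRing.spanFinrank_maximalIdeal (R := S)
  have hfg := (maximalIdeal S).fg_of_isNoetherianRing
  have hfin : (maximalIdeal S).generators.Finite := Submodule.FG.finite_generators hfg
  have hcard : (maximalIdeal S).generators.ncard = (maximalIdeal S).spanFinrank :=
    Submodule.FG.generators_ncard hfg
  let rs : List S := hfin.toFinset.toList
  have hlen0 : rs.length = (maximalIdeal S).spanFinrank := by
    rw [Finset.length_toList, ← hcard, Set.ncard_eq_toFinset_card _ hfin]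
  have hlen : rs.length = n := by
    rw [hn] at hreg
    rw [hlen0]
    exact_mod_cast hreg
  have hspan : Ideal.ofList rs = maximalIdeal S := by
    have : {x | x ∈ rs} = (maximalIdeal S).generators := by
      ext x; simp [rs]
    change Ideal.span {x | x ∈ rs} = _
    rw [this]
    exact (maximalIdeal S).span_generators
  have h1 : RingTheory.Sequence.IsRegular S rs :=
    Groth.Agent.CalgA.RegBasic.isRegular_of_ofList_eq _ S rs hlen hn hspan
  have h2 := EV.of_regular (M := S) rs (fun r hr => by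
    rw [← hspan]; exact Ideal.subset_span hr) h1.toIsWeaklyRegular
  rwa [hlen] at h2

/-- **Lemma L.** -/
theorem free_of_liftable {G : ι → S} [DecidableEq ι] (hG : PReg G)
    (hGm : ∀ i, G i ∈ maximalIdeal S) {n : ℕ} (hn : ringKrullDim S = n) (s : Finset ι) :
    ∀ (N : Type u) [AddCommGroup N] [Module S N] [Module.Finite S N] (m : ℕ), m + s.card = n →
      EV (kk S) (ModuleCat.of S N) m → (∀ j ∈ s, ∀ x : N, G j • x = 0) →
      (∀ i ∈ s, Liftable G s N i) → ∃ b : ℕ, Nonempty (N ≃ₗ[S] (Fin b → S ⧸ aa G s)) := by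
  have hnS : EV (kk S) (ModuleCat.of S S) n := EV_self hn
  induction s using Finset.induction_on with
  | empty =>
    intro N _ _ _ m hm hEV _ _
    rw [Finset.card_empty, add_zero] at hm
    subst hm
    have hfree : Module.Free S N := by
      rcases subsingleton_or_nontrivial N with h0 | h0
      · infer_instance
      · refine Groth.Agent.CalgA.RegAB.free_of_depth_eq S N (le_antisymm ?_ ?_)
        · exact (Groth.Agent.Localalg.Depth2.depth_le_supportDim N).trans
            (Module.supportDim_le_ringKrullDim S N)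
        · rw [hn]
          have := (le_depth_iff (M := N) m).mpr hEV
          exact_mod_cast this
    exact ⟨_, ⟨(Module.finBasis S N).equivFun.trans (LinearEquiv.piCongrRight fun _ =>
      (Submodule.quotEquivOfEqBot (aa G ∅) (aa_empty G)).symm)⟩⟩
  | insert a t ha ih =>
    intro N _ _ _ m hm hEV hN hL
    rw [Finset.card_insert_of_notMem ha] at hm
    obtain ⟨b, π, hπ⟩ := exists_presentation (I := aa G t) (N := N) (fun r hr x =>
      aa_smul_eq_zero (fun j hj y => hN j (Finset.mem_insert_of_mem hj) y) hr x)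
    have hK : EV (kk S) (ModuleCat.of S (LinearMap.ker π)) (m + 1) := by
      refine EV.left' (f := (LinearMap.ker π).subtype) (g := π) (Submodule.injective_subtype _)
        (LinearMap.exact_subtype_ker_map π) hπ ?_ hEV
      exact EV.pi (EV_quot hG hnS t (m + 1) (by omega)) b
    obtain ⟨b', ⟨e⟩⟩ := ih (LinearMap.ker π) (m + 1) (by omega) hK (by
      rintro j hj ⟨x, hx⟩
      apply Subtype.ext
      change G j • x = 0
      obtain ⟨y, rfl⟩ := mk_surj_pi x
      funext k
      change (Submodule.Quotient.mk (G j • y k) : S ⧸ aa G t) = 0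
      rw [Submodule.Quotient.mk_eq_zero]
      exact Ideal.mul_mem_right _ _ (mem_aa hj)) (fun i hi =>
        liftable_ker π hπ hG hi (hL i (Finset.mem_insert_of_mem hi)))
    obtain ⟨ρ, σ, hρσ⟩ := exists_retract π hπ hN ha (hL a (Finset.mem_insert_self a t))
    -- `K / G_a K ≅ (S / 𝔞_s)^b'`
    let fac : (Fin b' → S ⧸ aa G t) →ₗ[S] (Fin b' → S ⧸ aa G (insert a t)) :=
      LinearMap.compLeft (Submodule.factor (aa_mono (Finset.subset_insert a t))) (Fin b')
    have hfac : ∀ y : Fin b' → S, fac (fun k => Submodule.Quotient.mk (y k)) =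
      fun k => Submodule.Quotient.mk (y k) := fun y => rfl
    let q : LinearMap.ker π →ₗ[S] (Fin b' → S ⧸ aa G (insert a t)) := fac.comp e.toLinearMap
    have hq : Function.Surjective q := by
      intro z
      obtain ⟨y, rfl⟩ := mk_surj_pi z
      refine ⟨e.symm (fun k => Submodule.Quotient.mk (y k)), ?_⟩
      change fac (e (e.symm _)) = _
      rw [e.apply_symm_apply, hfac]
    have hqker : LinearMap.ker q = G a • (⊤ : Submodule S (LinearMap.ker π)) := by
      ext z
      rw [LinearMap.mem_ker, Submodule.mem_smul_pointwise_iff_exists]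
      constructor
      · intro hz
        obtain ⟨y, hy⟩ := mk_surj_pi (e z)
        have hz' : (fun k => (Submodule.Quotient.mk (y k) : S ⧸ aa G (insert a t))) = 0 := by
          rw [← hz]
          change _ = fac (e z)
          rw [hy, hfac]
        have hc : ∀ k, ∃ c, G a * c - y k ∈ aa G t := by
          intro k
          have := congrFun hz' k
          rw [Pi.zero_apply, Submodule.Quotient.mk_eq_zero, aa_insert, Submodule.mem_sup] at this
          obtain ⟨u, hu, w, hw, huw⟩ := this
          obtain ⟨c, rfl⟩ := Ideal.mem_span_singleton'.mp hu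
          refine ⟨c, ?_⟩
          have : G a * c - y k = - w := by rw [← huw]; ring
          rw [this]
          exact neg_mem hw
        choose c hc using hc
        refine ⟨e.symm (fun k => Submodule.Quotient.mk (c k)), trivial, ?_⟩
        apply e.injective
        rw [map_smul, e.apply_symm_apply, hy]
        funext k
        change (Submodule.Quotient.mk (G a * c k) : S ⧸ aa G t) = _
        rw [Submodule.Quotient.eq]
        exact hc k
      · rintro ⟨w, -, rfl⟩
        rw [map_smul]
        obtain ⟨y, hy⟩ := mk_surj_pi (q w)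
        rw [hy]
        funext k
        change (Submodule.Quotient.mk (G a * y k) : S ⧸ aa G (insert a t)) = 0
        rw [Submodule.Quotient.mk_eq_zero]
        exact Ideal.mul_mem_right _ _ (mem_aa (Finset.mem_insert_self a t))
    let e3 : (LinearMap.ker π ⧸ (G a • (⊤ : Submodule S (LinearMap.ker π)))) ≃ₗ[S]
        (Fin b' → S ⧸ aa G (insert a t)) :=
      (Submodule.quotEquivOfEq _ _ hqker.symm).trans (q.quotKerEquivOfSurjective hq)
    refine free_of_retract (I := aa G (insert a t)) ?_ (e3.toLinearMap.comp σ)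
      (ρ.comp e3.symm.toLinearMap) ?_
    · unfold aa
      rw [Ideal.span_le]
      rintro _ ⟨j, -, rfl⟩
      exact hGm j
    · ext x
      change ρ (e3.symm (e3 (σ x))) = x
      rw [e3.symm_apply_apply]
      exact LinearMap.congr_fun hρσ x

end Main

end Groth.Agent.Lefpen.H715.LiftFree
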