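import Groth.Agent.Lefpen.H715.Trivial

/-!
**The local theorem.** `S` regular local of characteristic `p` and dimension `d + 3`, `G_1, …, G_d`
a regular sequence, `A = S/(G)` a domain. A tuple which, away from the closed point, generates an
invertible module and is for every `n` a multiple of a `p^n`-th power of such a tuple, is trivial away
from the closed point.
-/

set_option autoImplicit false
universe u

set_option linter.unusedSectionVars false

namespace Groth.Agent.Lefpen.H715.Local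

open IsLocalRing Groth.Agent.CalgB.DepthLite Groth.Agent.Lefpen.H715.LiftFree
  Groth.Agent.Lefpen.H715.RegSeq Groth.Agent.Localalg.Lech Groth.Agent.Lefpen.H715.Frob
  Groth.Agent.Lefpen.H715.Cplx Groth.Agent.Lefpen.H715.Bound Groth.Agent.Lefpen.H715.Pres
  Groth.Agent.Lefpen.H715.RegA Groth.Agent.Lefpen.H715.Kill

variable {S : Type u} [CommRing S]

/-- transport of the homology along an isomorphism -/
theorem length_H1_equiv {a b c : ℕ} (Φ : Matrix (Fin b) (Fin a) S) (Ψ : Matrix (Fin c) (Fin b) S)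
    {T T' : Type*} [AddCommGroup T] [Module S T] [AddCommGroup T'] [Module S T'] (e : T ≃ₗ[S] T') :
    Nonempty (H1 Φ Ψ T ≃ₗ[S] H1 Φ Ψ T') := by
  refine ⟨LinearEquiv.ofLinearMap (H1map Φ Ψ e.toLinearMap) (H1map Φ Ψ e.symm.toLinearMap) ?_ ?_⟩
  · refine LinearMap.ext fun z => ?_
    obtain ⟨z, rfl⟩ := Submodule.Quotient.mk_surjective _ z
    change (Submodule.Quotient.mk (kerMap Ψ e.toLinearMap (kerMap Ψ e.symm.toLinearMap z)) :
      H1 Φ Ψ T') = Submodule.Quotient.mk z
    congr 1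
    apply Subtype.ext
    funext k
    exact e.apply_symm_apply _
  · refine LinearMap.ext fun z => ?_
    obtain ⟨z, rfl⟩ := Submodule.Quotient.mk_surjective _ z
    change (Submodule.Quotient.mk (kerMap Ψ e.symm.toLinearMap (kerMap Ψ e.toLinearMap z)) :
      H1 Φ Ψ T) = Submodule.Quotient.mk z
    congr 1
    apply Subtype.ext
    funext k
    exact e.symm_apply_apply _

/-- transport of the kernel along an isomorphism -/
theorem ker_equiv {a b : ℕ} (Φ : Matrix (Fin b) (Fin a) S)
    {T T' : Type*} [AddCommGroup T] [Module S T] [AddCommGroup T'] [Module S T'] (e : T ≃ₗ[S] T') :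
    Nonempty (LinearMap.ker (mv Φ T) ≃ₗ[S] LinearMap.ker (mv Φ T')) := by
  refine ⟨LinearEquiv.ofLinearMap (kerMap Φ e.toLinearMap) (kerMap Φ e.symm.toLinearMap) ?_ ?_⟩
  · refine LinearMap.ext fun z => ?_
    apply Subtype.ext
    funext k
    exact e.apply_symm_apply _
  · refine LinearMap.ext fun z => ?_
    apply Subtype.ext
    funext k
    exact e.symm_apply_apply _

section principal

variable {A : Type*} [CommRing A] [IsDomain A] [Algebra S A] {K : Type*} [Field K] [Algebra A K]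
  [IsFractionRing A K] [Algebra S K] [IsScalarTower S A K]

/-- a free dual module of an integral tuple is generated by one element -/
theorem exists_generator (hsurj : Function.Surjective (algebraMap S A)) {α : Type*} (v : α → A)
    {n : ℕ} (e : dualM S A (fun k => algebraMap A K (v k)) ≃ₗ[S] (Fin n → A)) :
    ∃ z₀ : K, z₀ ≠ 0 ∧ z₀ ∈ dualM S A (fun k => algebraMap A K (v k)) ∧
      ∀ z ∈ dualM S A (fun k => algebraMap A K (v k)), ∃ s : S, z = s • z₀ := by
  have hinj : Function.Injective (algebraMap A K) := IsFractionRing.injective A K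
  have h1mem : (1 : K) ∈ dualM S A (fun k => algebraMap A K (v k)) := fun k =>
    ⟨v k, by rw [one_mul]⟩
  -- any two elements are dependent
  have hdep : ∀ z z' : K, z ≠ 0 → z' ≠ 0 → ∃ s s' : S, algebraMap S A s ≠ 0 ∧
      algebraMap S A s' ≠ 0 ∧ s • z = s' • z' := by
    intro z z' hz hz'
    obtain ⟨x, y, hy, hxy⟩ := IsFractionRing.div_surjective (A := A) (z' / z)
    obtain ⟨sx, hsx⟩ := hsurj x
    obtain ⟨sy, hsy⟩ := hsurj y
    have hy0 : y ≠ 0 := nonZeroDivisors.ne_zero hy
    have hy0' : algebraMap A K y ≠ 0 := by rw [Ne, map_eq_zero_iff _ hinj]; exact hy0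
    have hx0 : x ≠ 0 := by
      rintro rfl
      rw [map_zero, zero_div] at hxy
      exact div_ne_zero hz' hz hxy.symm
    refine ⟨sx, sy, by rw [hsx]; exact hx0, by rw [hsy]; exact hy0, ?_⟩
    rw [Algebra.smul_def, Algebra.smul_def, IsScalarTower.algebraMap_apply S A K,
      IsScalarTower.algebraMap_apply S A K, hsx, hsy]
    field_simp at hxy
    linear_combination hxy
  have hn : n = 1 := by
    rcases Nat.lt_trichotomy n 1 with h | h | h
    · exfalso
      have h0 : n = 0 := by omega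
      subst h0
      have h2 : (⟨1, h1mem⟩ : dualM S A (fun k => algebraMap A K (v k))) = 0 :=
        e.injective (Subsingleton.elim _ _)
      exact one_ne_zero (congrArg Subtype.val h2)
    · exact h
    · exfalso
      let i0 : Fin n := ⟨0, by omega⟩
      let i1 : Fin n := ⟨1, by omega⟩
      have hi : i0 ≠ i1 := by
        intro h
        have := congrArg Fin.val h
        simp [i0, i1] at this
      have hz0 : (e.symm (Pi.single i0 1)).1 ≠ 0 := by
        intro h
        have h2 : e.symm (Pi.single i0 1) = 0 := Subtype.ext h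
        rw [LinearEquiv.map_eq_zero_iff] at h2
        have := congrFun h2 i0
        rw [Pi.single_eq_same] at this
        exact one_ne_zero this
      have hz1 : (e.symm (Pi.single i1 1)).1 ≠ 0 := by
        intro h
        have h2 : e.symm (Pi.single i1 1) = 0 := Subtype.ext h
        rw [LinearEquiv.map_eq_zero_iff] at h2
        have := congrFun h2 i1
        rw [Pi.single_eq_same] at this
        exact one_ne_zero this
      obtain ⟨s, s', hs, hs', h3⟩ := hdep _ _ hz0 hz1
      have h4 : s • (Pi.single i0 1 : Fin n → A) = s' • Pi.single i1 1 := by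
        apply e.symm.injective
        rw [map_smul, map_smul]
        exact Subtype.ext h3
      have h5 := congrFun h4 i0
      rw [Pi.smul_apply, Pi.smul_apply, Pi.single_eq_same, Pi.single_eq_of_ne hi, smul_zero,
        Algebra.smul_def, mul_one] at h5
      exact hs h5
  subst hn
  refine ⟨(e.symm (Pi.single 0 1)).1, ?_, (e.symm (Pi.single 0 1)).2, fun z hz => ?_⟩
  · intro h
    have h2 : e.symm (Pi.single 0 1) = 0 := Subtype.ext h
    rw [LinearEquiv.map_eq_zero_iff] at h2
    have := congrFun h2 0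
    rw [Pi.single_eq_same] at this
    exact one_ne_zero this
  · obtain ⟨s, hs⟩ := hsurj (e ⟨z, hz⟩ 0)
    refine ⟨s, ?_⟩
    have h1 : e ⟨z, hz⟩ = s • Pi.single 0 1 := by
      funext i
      rw [Subsingleton.elim i 0, Pi.smul_apply, Pi.single_eq_same, Algebra.smul_def, mul_one, hs]
    have h2 : (⟨z, hz⟩ : dualM S A (fun k => algebraMap A K (v k))) =
        s • e.symm (Pi.single 0 1) := by
      rw [← map_smul, ← h1, e.symm_apply_apply]
    exact congrArg Subtype.val h2

end principal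

section pieces

variable {A : Type u} [CommRing A] [IsDomain A] [Algebra S A] {K : Type*} [Field K] [Algebra A K]
  [IsFractionRing A K] [Algebra S K] [IsScalarTower S A K]

/-- a tuple satisfying the invertibility condition is not zero -/
theorem exists_ne_zero [IsLocalRing S]
    (hreg2 : ∀ N : ℕ, ∃ F₀ F₁ : S, F₀ ∈ maximalIdeal S ^ N ∧ F₁ ∈ maximalIdeal S ^ N ∧
      algebraMap S A F₀ ≠ 0 ∧ Reg2 A F₀ F₁) {β : Type*} (v : β → K) (N : ℕ)
    (hN : maximalIdeal S ^ N ≤
      Ideal.span {s : S | ∃ i, v i ≠ 0 ∧ ∀ k, ∃ c : S, s • v k = c • v i}) : ∃ i, v i ≠ 0 := by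
  by_contra hcon
  push Not at hcon
  have h1 : {s : S | ∃ i, v i ≠ 0 ∧ ∀ k, ∃ c : S, s • v k = c • v i} = ∅ := by
    ext s
    simp only [Set.mem_ofPred_eq, Set.mem_empty_iff_false, iff_false]
    rintro ⟨i, hi, -⟩
    exact hi (hcon i)
  rw [h1, Ideal.span_empty, le_bot_iff] at hN
  obtain ⟨F₀, F₁, h0, -, hne, -⟩ := hreg2 N
  rw [hN] at h0
  exact hne (by rw [(Submodule.mem_bot S).mp h0, map_zero])

variable (p : ℕ) [Fact p.Prime] [CharP S p]

/-- entries of Frobenius powers -/
theorem frob_mem {d : ℕ} (G : Fin d → S) (e : ℕ) (x : S) (hx : x ∈ aa G Finset.univ) :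
    iterateFrobenius S p e x ∈ aa (pw G (fun _ => p ^ e)) Finset.univ := by
  have : aa G Finset.univ ≤ Ideal.comap (iterateFrobenius S p e)
      (aa (pw G (fun _ => p ^ e)) Finset.univ) := by
    unfold aa
    rw [Ideal.span_le]
    rintro _ ⟨i, hi, rfl⟩
    change iterateFrobenius S p e (G i) ∈ aa (pw G (fun _ => p ^ e)) Finset.univ
    rw [iterateFrobenius_def]
    exact mem_aa (G := pw G (fun _ => p ^ e)) hi
  exact this hx

theorem frob_mul_mem {d a b c : ℕ} (G : Fin d → S) (Φ : Matrix (Fin b) (Fin a) S)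
    (Ψ : Matrix (Fin c) (Fin b) S) (hrel : ∀ i k, (Ψ * Φ) i k ∈ aa G Finset.univ) (e : ℕ) (i k) :
    (Ψ.map (iterateFrobenius S p e) * Φ.map (iterateFrobenius S p e)) i k ∈
      aa (pw G (fun _ => p ^ e)) Finset.univ := by
  have : (Ψ.map (iterateFrobenius S p e) * Φ.map (iterateFrobenius S p e)) i k =
      iterateFrobenius S p e ((Ψ * Φ) i k) := by
    rw [Matrix.mul_apply, Matrix.mul_apply, map_sum]
    exact Finset.sum_congr rfl fun l _ => by rw [Matrix.map_apply, Matrix.map_apply, map_mul]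
  rw [this]
  exact frob_mem p G e _ (hrel i k)

theorem map_map_frob {m n : ℕ} (B : ℕ) (M : Matrix (Fin m) (Fin n) S) :
    (M.map (iterateFrobenius S p 1)).map (iterateFrobenius S p B) =
      M.map (iterateFrobenius S p (B + 1)) := by
  ext x y
  rw [Matrix.map_apply, Matrix.map_apply, Matrix.map_apply, iterateFrobenius_add_apply]

omit [CharP S p] in
/-- vanishing of the homology at level one from the bound at level `B + 1` -/
theorem vanish [IsRegularLocalRing S] [CharP S p] {d a b c : ℕ} (G : Fin d → S)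
    (hG : HReg G) (hdim : ringKrullDim S = (d + 3 : ℕ)) (Φ : Matrix (Fin b) (Fin a) S)
    (Ψ : Matrix (Fin c) (Fin b) S) (hrel : ∀ i k, (Ψ * Φ) i k ∈ aa G Finset.univ)
    (hs : ∃ s : ℕ, ∀ r ∈ maximalIdeal S ^ s, ∀ z : H1 (Φ.map (iterateFrobenius S p 1))
      (Ψ.map (iterateFrobenius S p 1)) (S ⧸ aa G Finset.univ), r • z = 0) (B : ℕ)
    (hbound : Module.length S (H1 (Φ.map (iterateFrobenius S p (B + 1)))
      (Ψ.map (iterateFrobenius S p (B + 1))) (S ⧸ aa G Finset.univ)) ≤ B) :
    Subsingleton (H1 (Φ.map (iterateFrobenius S p 1)) (Ψ.map (iterateFrobenius S p 1))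
      (S ⧸ aa G Finset.univ)) := by
  have hp1 : 1 < p := (Fact.out : p.Prime).one_lt
  by_contra hcon
  rw [not_subsingleton_iff_nontrivial] at hcon
  have h1 := pow_le_length_H1 p hdim G (Φ.map (iterateFrobenius S p 1))
    (Ψ.map (iterateFrobenius S p 1)) hs B
  rw [map_map_frob, map_map_frob] at h1
  have h2 := length_H1_pw G hG (Φ.map (iterateFrobenius S p (B + 1)))
    (Ψ.map (iterateFrobenius S p (B + 1))) (fun _ => p ^ (B + 1))
    (frob_mul_mem p G Φ Ψ hrel (B + 1)) _
    (fun _ => p ^ B) (fun _ => pow_ne_zero _ (by omega))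
    (fun _ => Nat.pow_le_pow_right (by omega) (by omega)) rfl
  have h3 := h1.trans (h2.trans (mul_le_mul' le_rfl hbound))
  rw [Finset.prod_const, Finset.card_univ, Fintype.card_fin] at h3
  have h4 : (p ^ B) ^ (d + 3) ≤ (p ^ B) ^ d * B := by exact_mod_cast h3
  rw [pow_add] at h4
  have hpos : 0 < p ^ B := pow_pos (by omega) _
  have h5 : (p ^ B) ^ 3 ≤ B := Nat.le_of_mul_le_mul_left h4 (pow_pos hpos _)
  have h6 : B < p ^ B := Nat.lt_pow_self hp1
  have h7 : p ^ B ≤ (p ^ B) ^ 3 := Nat.le_self_pow (by norm_num) _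
  omega

omit [CharP S p] in
/-- freeness of the kernel at level one -/
theorem free_ker [IsRegularLocalRing S] [CharP S p] {d a b c : ℕ} (G : Fin d → S)
    (hG : HReg G) (hGm : ∀ i, G i ∈ maximalIdeal S) (hdim : ringKrullDim S = (d + 3 : ℕ))
    (Φ : Matrix (Fin b) (Fin a) S)
    (Ψ : Matrix (Fin c) (Fin b) S) (hrel : ∀ i k, (Ψ * Φ) i k ∈ aa G Finset.univ)
    (hEV0 : EV (kk S) (ModuleCat.of S (S ⧸ aa G Finset.univ)) 3)
    (hvan : Subsingleton (H1 (Φ.map (iterateFrobenius S p 1)) (Ψ.map (iterateFrobenius S p 1))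
      (S ⧸ aa G Finset.univ))) :
    ∃ b' : ℕ, Nonempty (LinearMap.ker (mv (Φ.map (iterateFrobenius S p 1)) (S ⧸ aa G Finset.univ))
      ≃ₗ[S] (Fin b' → S ⧸ aa G Finset.univ)) := by
  classical
  have hp1 : 1 < p := (Fact.out : p.Prime).one_lt
  have hrelF := frob_mul_mem p G Φ Ψ hrel 1
  generalize Φ.map (iterateFrobenius S p 1) = Φ₁ at *
  generalize Ψ.map (iterateFrobenius S p 1) = Ψ₁ at *
  have hEVM : EV (kk S) (ModuleCat.of S (LinearMap.ker (mv Φ₁ (S ⧸ aa G Finset.univ)))) 3 := by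
    refine Trivial.EV_ker Φ₁ Ψ₁ _ hEV0 hvan (fun x => ?_)
    rw [mv_mv]
    refine mv_eq_zero (fun i k y => ?_) x
    obtain ⟨y, rfl⟩ := Submodule.Quotient.mk_surjective _ y
    rw [← Submodule.Quotient.mk_smul, Submodule.Quotient.mk_eq_zero]
    refine Ideal.mul_mem_right _ _ ?_
    have hle : aa (pw G (fun _ => p ^ 1)) Finset.univ ≤ aa G Finset.univ := by
      unfold aa
      rw [Ideal.span_le]
      rintro _ ⟨l, hl, rfl⟩
      exact Ideal.pow_mem_of_mem _ (mem_aa (Finset.mem_univ l)) _ (by positivity)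
    exact hle (hrelF i k)
  have hlift : ∀ i ∈ (Finset.univ : Finset (Fin d)),
      Liftable G Finset.univ (LinearMap.ker (mv Φ₁ (S ⧸ aa G Finset.univ))) i := by
    intro i _
    refine Trivial.liftable_ker G hG Φ₁ Ψ₁ i hvan (fun k l => ?_)
    have hle : aa (pw G (fun _ => p ^ 1)) Finset.univ ≤
        Ideal.span {G i * G i} ⊔ aa G (Finset.univ.erase i) := by
      unfold aa
      rw [Ideal.span_le]
      rintro _ ⟨l, hl, rfl⟩
      by_cases hli : l = i
      · subst hli
        refine Submodule.mem_sup_left ?_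
        obtain ⟨k, hk⟩ : ∃ k, p = k + 2 := ⟨p - 2, by omega⟩
        have : pw G (fun _ => p ^ 1) l = G l ^ k * (G l * G l) := by
          unfold pw
          simp only [pow_one]
          rw [hk]
          ring
        rw [this]
        exact Ideal.mul_mem_left _ _ (Ideal.mem_span_singleton_self _)
      · refine Submodule.mem_sup_right ?_
        exact Ideal.pow_mem_of_mem _ (mem_aa (Finset.mem_erase.mpr ⟨hli, Finset.mem_univ l⟩)) _
          (by positivity)
    exact hle (hrelF k l)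
  exact free_of_liftable hG.preg hGm hdim Finset.univ
    (LinearMap.ker (mv Φ₁ (S ⧸ aa G Finset.univ))) 3
    (by rw [Finset.card_univ, Fintype.card_fin]; omega) hEVM (by
      rintro i - ⟨x, hx⟩
      apply Subtype.ext
      funext k
      change G i • x k = 0
      obtain ⟨t, ht⟩ := Submodule.Quotient.mk_surjective _ (x k)
      rw [← ht, ← Submodule.Quotient.mk_smul, Submodule.Quotient.mk_eq_zero]
      exact Ideal.mul_mem_right _ _ (mem_aa (Finset.mem_univ i))) hlift

end pieces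

section concl

variable (p : ℕ) [Fact p.Prime] [CharP S p] [IsLocalRing S] [IsNoetherianRing S] {A : Type u}
  [CommRing A] [IsDomain A] [CharP A p] [Algebra S A]
  {K : Type*} [Field K] [Algebra A K]
  [IsFractionRing A K] [Algebra S K] [IsScalarTower S A K]

/-- local generators generate the inverse of the generator of the dual module -/
theorem leU_generator {a : ℕ} (j : Fin a → A) (z₀ : K) (hz₀ : z₀ ≠ 0)
    (hgen : ∀ z ∈ dualM S A (fun k => algebraMap A K (iterateFrobenius A p 1 (j k))),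
      ∃ s : S, z = s • z₀) (hj : InvU S (fun k => algebraMap A K (j k))) (B : ℕ) :
    LeU S (fun _ : Unit => z₀⁻¹ ^ p ^ B) (fun k => algebraMap A K (j k) ^ p ^ (B + 1)) := by
  obtain ⟨N₁, hN₁⟩ := hj
  obtain ⟨N₂, hN₂⟩ := exists_pow_le_map (iterateFrobenius S p (B + 1)) (p ^ (B + 1))
    (fun x => iterateFrobenius_def _ _ _) _ N₁ hN₁
  refine ⟨N₂, fun s hs k => ?_⟩
  have hmem := hN₂ hs
  rw [Ideal.map_span] at hmem
  change s • (z₀⁻¹ ^ p ^ B) ∈ _
  clear hs
  induction hmem using Submodule.span_induction with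
  | mem t ht =>
    obtain ⟨s', ⟨i, hi, hs'⟩, rfl⟩ := ht
    have hi0 : algebraMap A K (j i) ^ p ≠ 0 := pow_ne_zero _ hi
    -- `s'^p / v_i` is in the dual module
    have h1 : algebraMap S K s' ^ p * (algebraMap A K (j i) ^ p)⁻¹ ∈
        dualM S A (fun k => algebraMap A K (iterateFrobenius A p 1 (j k))) := by
      intro k
      obtain ⟨γ, hγ⟩ := hs' k
      refine ⟨algebraMap S A γ ^ p, ?_⟩
      change _ = algebraMap S K s' ^ p * (algebraMap A K (j i) ^ p)⁻¹ *
        algebraMap A K (iterateFrobenius A p 1 (j k))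
      rw [iterateFrobenius_def, pow_one, map_pow, map_pow, ← IsScalarTower.algebraMap_apply S A K]
      have h3 : (algebraMap S K s' * algebraMap A K (j k)) ^ p =
          (algebraMap S K γ * algebraMap A K (j i)) ^ p := by
        rw [← Algebra.smul_def, ← Algebra.smul_def]
        exact congrArg (fun x => x ^ p) hγ
      rw [mul_pow, mul_pow] at h3
      calc algebraMap S K γ ^ p
          = algebraMap S K γ ^ p * algebraMap A K (j i) ^ p * (algebraMap A K (j i) ^ p)⁻¹ := by
            rw [mul_assoc, mul_inv_cancel₀ hi0, mul_one]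
        _ = _ := by rw [← h3]; ring
    obtain ⟨r, hr⟩ := hgen _ h1
    have h2 : algebraMap S K s' ^ p * z₀⁻¹ = algebraMap S K r * algebraMap A K (j i) ^ p := by
      rw [Algebra.smul_def] at hr
      calc algebraMap S K s' ^ p * z₀⁻¹
          = (algebraMap S K s' ^ p * (algebraMap A K (j i) ^ p)⁻¹) * algebraMap A K (j i) ^ p
              * z₀⁻¹ := by
            rw [mul_assoc (algebraMap S K s' ^ p), inv_mul_cancel₀ hi0, mul_one]
        _ = algebraMap S K r * algebraMap A K (j i) ^ p * (z₀ * z₀⁻¹) := by rw [hr]; ring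
        _ = _ := by rw [mul_inv_cancel₀ hz₀, mul_one]
    have h3 : (iterateFrobenius S p (B + 1) s') • (z₀⁻¹ ^ p ^ B) =
        (r ^ p ^ B) • (algebraMap A K (j i) ^ p ^ (B + 1)) := by
      have h4 : (algebraMap S K s' ^ p * z₀⁻¹) ^ p ^ B =
        (algebraMap S K r * algebraMap A K (j i) ^ p) ^ p ^ B := by rw [h2]
      rw [mul_pow, mul_pow, ← pow_mul, ← pow_mul, ← pow_succ'] at h4
      rw [Algebra.smul_def, Algebra.smul_def, iterateFrobenius_def, map_pow, map_pow]
      exact h4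
    rw [h3]
    exact Submodule.smul_mem _ _ (Submodule.subset_span ⟨i, rfl⟩)
  | zero => rw [zero_smul]; exact zero_mem _
  | add t t' _ _ h1 h2 => rw [add_smul]; exact add_mem h1 h2
  | smul r t _ h1 => rw [smul_assoc]; exact Submodule.smul_mem _ _ h1

omit [IsNoetherianRing S] [CharP S p] in
/-- conversely -/
theorem leU_generator' (hsurj : Function.Surjective (algebraMap S A)) {a : ℕ} (j : Fin a → A)
    (z₀ : K) (hz₀ : z₀ ≠ 0)
    (hm : z₀ ∈ dualM S A (fun k => algebraMap A K (iterateFrobenius A p 1 (j k)))) (B : ℕ) (w : K) :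
    LeU S (fun k => w * algebraMap A K (j k) ^ p ^ (B + 1))
      (fun _ : Unit => w * z₀⁻¹ ^ p ^ B) := by
  refine ⟨0, fun s _ k => ?_⟩
  refine Submodule.smul_mem _ _ ?_
  obtain ⟨t, ht⟩ := hm k
  obtain ⟨t', rfl⟩ := hsurj t
  change _ = z₀ * algebraMap A K (iterateFrobenius A p 1 (j k)) at ht
  rw [iterateFrobenius_def, pow_one, map_pow, ← IsScalarTower.algebraMap_apply S A K] at ht
  have h1 : w * algebraMap A K (j k) ^ p ^ (B + 1) = (t' ^ p ^ B) • (w * (z₀⁻¹) ^ p ^ B) := by
    rw [Algebra.smul_def, map_pow, ht, mul_pow, ← pow_mul, ← pow_succ']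
    have h2 : z₀ ^ p ^ B * z₀⁻¹ ^ p ^ B = 1 := by
      rw [← mul_pow, mul_inv_cancel₀ hz₀, one_pow]
    calc w * algebraMap A K (j k) ^ p ^ (B + 1)
        = (z₀ ^ p ^ B * z₀⁻¹ ^ p ^ B) * (w * algebraMap A K (j k) ^ p ^ (B + 1)) := by
          rw [h2, one_mul]
      _ = _ := by ring
  change w * algebraMap A K (j k) ^ p ^ (B + 1) ∈ _
  rw [h1]
  exact Submodule.smul_mem _ _ (Submodule.subset_span ⟨(), rfl⟩)

end concl

/-- **The local theorem.** -/
theorem main (p : ℕ) [Fact p.Prime] [IsRegularLocalRing S] [CharP S p] {d : ℕ} (G : Fin d → S)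
    (hG : HReg G) (hGm : ∀ i, G i ∈ maximalIdeal S) (hdim : ringKrullDim S = (d + 3 : ℕ))
    {A : Type u} [CommRing A] [IsDomain A] [Algebra S A]
    (hsurj : Function.Surjective (algebraMap S A))
    (hker : ∀ x, algebraMap S A x = 0 ↔ x ∈ aa G Finset.univ)
    {K : Type*} [Field K] [Algebra A K] [IsFractionRing A K] [Algebra S K] [IsScalarTower S A K]
    {α : Type*} (u : α → K) (hu : InvU S u)
    (h : ∀ n : ℕ, ∃ (a : ℕ) (j : Fin a → A) (w : K), w ≠ 0 ∧
      InvU S (fun k => algebraMap A K (j k)) ∧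
      LeU S u (fun k => w * algebraMap A K (j k) ^ p ^ n) ∧
      LeU S (fun k => w * algebraMap A K (j k) ^ p ^ n) u) :
    ∃ w : K, w ≠ 0 ∧ LeU S u (fun _ : Unit => w) ∧ LeU S (fun _ : Unit => w) u := by
  -- characteristic
  have hpA : (p : A) = 0 := by
    have : algebraMap S A (p : S) = (p : A) := map_natCast _ p
    rw [← this, CharP.cast_eq_zero, map_zero]
  have hcA : CharP A p := (CharP.charP_iff_prime_eq_zero (Fact.out : p.Prime)).mpr hpA
  -- `A` as an `S`-module
  have hker' : LinearMap.ker (Algebra.linearMap S A) = aa G Finset.univ := by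
    ext x
    exact hker x
  let eA : (S ⧸ aa G Finset.univ) ≃ₗ[S] A :=
    (Submodule.quotEquivOfEq _ _ hker'.symm).trans
      ((Algebra.linearMap S A).quotKerEquivOfSurjective hsurj)
  have hEV0 : EV (kk S) (ModuleCat.of S (S ⧸ aa G Finset.univ)) 3 :=
    EV_quot hG.preg (EV_self hdim) Finset.univ 3 (by rw [Finset.card_univ, Fintype.card_fin]; omega)
  have hEV : EV (kk S) (ModuleCat.of S A) 3 := EV.equiv eA hEV0
  have hfinA : Module.Finite S A := Module.Finite.of_surjective (Algebra.linearMap S A) hsurj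
  have hreg := exists_reg3 hEV
  have hreg2 : ∀ N : ℕ, ∃ F₀ F₁ : S, F₀ ∈ maximalIdeal S ^ N ∧ F₁ ∈ maximalIdeal S ^ N ∧
      algebraMap S A F₀ ≠ 0 ∧ Reg2 A F₀ F₁ := by
    intro N
    obtain ⟨F₀, F₁, F₂, h0, h1, h2, hF⟩ := hreg N
    refine ⟨F₀, F₁, h0, h1, fun h => ?_, hF.toReg2⟩
    have := hF.r0 (1 : A) (by rw [Algebra.smul_def, h, zero_mul])
    exact one_ne_zero this
  -- the bound
  obtain ⟨N, hN⟩ := hu
  obtain ⟨i₀, hi₀⟩ := exists_ne_zero (A := A) hreg2 u N hN
  obtain ⟨F₀, F₁, F₂, hF0, hF1, -, hF3⟩ := hreg N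
  have hfin : Module.Finite S (dualM S A u) := finite_dualM hsurj u i₀ hi₀
  obtain ⟨B, hB⟩ : ∃ B : ℕ, BB (maximalIdeal S ^ N) F₀ F₁ (dualM S A u) = B :=
    ⟨_, (ENat.natCast_toNat (BB_ne_top N F₀ F₁ _)).symm⟩
  -- choose the level
  obtain ⟨a, j, w, hw, hj, hle1, hle2⟩ := h (B + 1)
  obtain ⟨b, c, Φ, Ψ, hP⟩ := exists_pres (S := S) j
  obtain ⟨i₁, hi₁⟩ : ∃ i, algebraMap A K (j i) ≠ 0 := by
    obtain ⟨N₁, hN₁⟩ := hj
    exact exists_ne_zero (A := A) hreg2 _ N₁ hN₁
  have hi₁' : j i₁ ≠ 0 := fun h => hi₁ (by rw [h, map_zero])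
  have hFcomp : ∀ (e : ℕ) (x : S), algebraMap S A (iterateFrobenius S p e x) =
      iterateFrobenius A p e (algebraMap S A x) := by
    intro e x
    rw [iterateFrobenius_def, iterateFrobenius_def, map_pow]
  have hFne : ∀ e, iterateFrobenius A p e (j i₁) ≠ 0 := by
    intro e
    rw [iterateFrobenius_def]
    exact pow_ne_zero _ hi₁'
  -- the kernel at level `B + 1`
  obtain ⟨θ⟩ : Nonempty (LinearMap.ker (mv (Φ.map (iterateFrobenius S p (B + 1))) A) ≃ₗ[S]
      dualM S A u) := by
    obtain ⟨e1⟩ := exists_equiv_dualM (K := K) hsurj hP (iterateFrobenius S p (B + 1))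
      (iterateFrobenius A p (B + 1)) (hFcomp _) i₁ (hFne _)
    have e2 : (fun k => algebraMap A K (iterateFrobenius A p (B + 1) (j k))) =
        fun k => algebraMap A K (j k) ^ p ^ (B + 1) := by
      funext k
      rw [iterateFrobenius_def, map_pow]
    rw [e2] at e1
    obtain ⟨e3⟩ := exists_equiv_scale (S := S) (A := A)
      (fun k => algebraMap A K (j k) ^ p ^ (B + 1)) w hw
    have e4 : dualM S A (fun k => w * algebraMap A K (j k) ^ p ^ (B + 1)) = dualM S A u :=
      le_antisymm (dualM_le hle1 hreg2) (dualM_le hle2 hreg2)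
    exact ⟨e1.trans (e3.trans (LinearEquiv.ofEq _ _ e4))⟩
  have hbound : Module.length S (H1 (Φ.map (iterateFrobenius S p (B + 1)))
      (Ψ.map (iterateFrobenius S p (B + 1))) (S ⧸ aa G Finset.univ)) ≤ B := by
    obtain ⟨e1⟩ := length_H1_equiv (Φ.map (iterateFrobenius S p (B + 1)))
      (Ψ.map (iterateFrobenius S p (B + 1))) eA
    rw [e1.length_eq, ← hB]
    exact length_H1_le hreg (exists_pow_smul_H1 hP hj (iterateFrobenius S p (B + 1))
      (p ^ (B + 1)) (fun x => iterateFrobenius_def _ _ _) A) u θ N hN F₀ F₁ hF0 hF1 hF3.toReg2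
  have hrel : ∀ i k, (Ψ * Φ) i k ∈ aa G Finset.univ := fun i k => (hker _).mp (hP.rel2 i k)
  have hvan := vanish p G hG hdim Φ Ψ hrel (exists_pow_smul_H1 hP hj (iterateFrobenius S p 1)
    (p ^ 1) (fun x => iterateFrobenius_def _ _ _) _) B hbound
  obtain ⟨b', ⟨ε⟩⟩ := free_ker p G hG hGm hdim Φ Ψ hrel hEV0 hvan
  obtain ⟨ε1⟩ := ker_equiv (Φ.map (iterateFrobenius S p 1)) eA
  obtain ⟨ε2⟩ := exists_equiv_dualM (K := K) hsurj hP (iterateFrobenius S p 1)
      (iterateFrobenius A p 1) (hFcomp _) i₁ (hFne _)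
  obtain ⟨z₀, hz₀, hz₀m, hgen⟩ := exists_generator (K := K) hsurj
    (fun k => iterateFrobenius A p 1 (j k))
    (ε2.symm.trans (ε1.symm.trans (ε.trans (LinearEquiv.piCongrRight fun _ => eA))))
  -- conclusion
  exact ⟨w * (z₀⁻¹) ^ p ^ B, mul_ne_zero hw (pow_ne_zero _ (inv_ne_zero hz₀)),
    hle1.trans (leU_generator' p hsurj j z₀ hz₀ hz₀m B w),
    ((leU_generator p j z₀ hz₀ hgen hj B).smul w).trans hle2⟩

/-- **The local theorem**, refined conclusion: the tuple is a multiple of `w`, and `w` has the same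
dual module. -/
theorem main' (p : ℕ) [Fact p.Prime] [IsRegularLocalRing S] [CharP S p] {d : ℕ} (G : Fin d → S)
    (hG : HReg G) (hGm : ∀ i, G i ∈ maximalIdeal S) (hdim : ringKrullDim S = (d + 3 : ℕ))
    {A : Type u} [CommRing A] [IsDomain A] [Algebra S A]
    (hsurj : Function.Surjective (algebraMap S A))
    (hker : ∀ x, algebraMap S A x = 0 ↔ x ∈ aa G Finset.univ)
    {K : Type*} [Field K] [Algebra A K] [IsFractionRing A K] [Algebra S K] [IsScalarTower S A K]
    {α : Type*} (u : α → K) (hu : InvU S u)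
    (h : ∀ n : ℕ, ∃ (a : ℕ) (j : Fin a → A) (w : K), w ≠ 0 ∧
      InvU S (fun k => algebraMap A K (j k)) ∧
      LeU S u (fun k => w * algebraMap A K (j k) ^ p ^ n) ∧
      LeU S (fun k => w * algebraMap A K (j k) ^ p ^ n) u) :
    ∃ w : K, w ≠ 0 ∧ (∀ k, ∃ x : A, u k = algebraMap A K x * w) ∧
      (∀ z : K, (∀ k, ∃ x : A, algebraMap A K x = z * u k) → ∃ x : A, algebraMap A K x = z * w) ∧
      LeU S (fun _ : Unit => w) u := by
  obtain ⟨w, hw, h1, h2⟩ := main p G hG hGm hdim hsurj hker u hu h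
  have hker' : LinearMap.ker (Algebra.linearMap S A) = aa G Finset.univ := by
    ext x
    exact hker x
  let eA : (S ⧸ aa G Finset.univ) ≃ₗ[S] A :=
    (Submodule.quotEquivOfEq _ _ hker'.symm).trans
      ((Algebra.linearMap S A).quotKerEquivOfSurjective hsurj)
  have hEV0 : EV (kk S) (ModuleCat.of S (S ⧸ aa G Finset.univ)) 3 :=
    EV_quot hG.preg (EV_self hdim) Finset.univ 3 (by rw [Finset.card_univ, Fintype.card_fin]; omega)
  have hEV : EV (kk S) (ModuleCat.of S A) 3 := EV.equiv eA hEV0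
  have hfinA : Module.Finite S A := Module.Finite.of_surjective (Algebra.linearMap S A) hsurj
  have hreg2 : ∀ N : ℕ, ∃ F₀ F₁ : S, F₀ ∈ maximalIdeal S ^ N ∧ F₁ ∈ maximalIdeal S ^ N ∧
      algebraMap S A F₀ ≠ 0 ∧ Reg2 A F₀ F₁ := by
    intro N
    obtain ⟨F₀, F₁, F₂, h0, h1, h2, hF⟩ := exists_reg3 hEV N
    refine ⟨F₀, F₁, h0, h1, fun h => ?_, hF.toReg2⟩
    have := hF.r0 (1 : A) (by rw [Algebra.smul_def, h, zero_mul])
    exact one_ne_zero this
  refine ⟨w, hw, fun k => ?_, fun z hz => ?_, h2⟩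
  · have h3 : w⁻¹ ∈ dualM S A (fun _ : Unit => w) := fun _ => ⟨1, by
      rw [map_one, inv_mul_cancel₀ hw]⟩
    obtain ⟨x, hx⟩ := dualM_le h1 hreg2 h3 k
    refine ⟨x, ?_⟩
    rw [hx, mul_assoc, mul_comm (u k), ← mul_assoc, inv_mul_cancel₀ hw, one_mul]
  · exact (dualM_le h2 hreg2) (show z ∈ dualM S A u from hz) ()

end Groth.Agent.Lefpen.H715.Local
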