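import Groth.Agent.Lefpen.H715.Bound

/-!
Presentations of tuples by matrices, homotopies, and their Frobenius powers.
-/

set_option autoImplicit false
universe u

set_option linter.dupNamespace false

namespace Groth.Agent.Lefpen.H715.Pres

open IsLocalRing Groth.Agent.Lefpen.H715.LiftFree Groth.Agent.Lefpen.H715.Cplx
  Groth.Agent.Lefpen.H715.Bound

variable {S : Type*} [CommRing S] {A : Type*} [CommRing A] [Algebra S A] {a b c : ℕ}

/-- `Φ` presents the relations between the `j k`, `Ψ` the relations between the rows of `Φ`. -/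
structure Pres (j : Fin a → A) (Φ : Matrix (Fin b) (Fin a) S) (Ψ : Matrix (Fin c) (Fin b) S) :
    Prop where
  rel : ∀ i, ∑ k, Φ i k • j k = 0
  gen : ∀ x : Fin a → S, ∑ k, x k • j k = 0 → ∃ y : Fin b → S, ∀ k, x k = ∑ i, y i * Φ i k
  rel2 : ∀ l k, algebraMap S A (∑ i, Ψ l i * Φ i k) = 0
  gen2 : ∀ y : Fin b → S, (∀ k, algebraMap S A (∑ i, y i * Φ i k) = 0) →
    ∃ z : Fin c → S, ∀ i, y i = ∑ l, z l * Ψ l i

/-- a finitely generated submodule of `S^a` is spanned by the rows of a matrix -/
lemma exists_rows [IsNoetherianRing S] (N : Submodule S (Fin a → S)) :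
    ∃ (b : ℕ) (Φ : Matrix (Fin b) (Fin a) S), (∀ i, Φ i ∈ N) ∧
      ∀ x ∈ N, ∃ y : Fin b → S, ∀ k, x k = ∑ i, y i * Φ i k := by
  obtain ⟨b, v, hv⟩ := Submodule.fg_iff_exists_fin_generating_family.mp (IsNoetherian.noetherian N)
  refine ⟨b, v, fun i => by rw [← hv]; exact Submodule.subset_span ⟨i, rfl⟩, fun x hx => ?_⟩
  rw [← hv, Submodule.mem_span_range_iff_exists_fun] at hx
  obtain ⟨y, rfl⟩ := hx
  refine ⟨y, fun k => ?_⟩
  rw [Finset.sum_apply]
  rfl

theorem exists_pres [IsNoetherianRing S] (j : Fin a → A) :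
    ∃ (b c : ℕ) (Φ : Matrix (Fin b) (Fin a) S) (Ψ : Matrix (Fin c) (Fin b) S), Pres j Φ Ψ := by
  let f : (Fin a → S) →ₗ[S] A := ∑ k, (LinearMap.toSpanSingleton S A (j k)).comp (LinearMap.proj k)
  have hf : ∀ x, f x = ∑ k, x k • j k := by
    intro x
    rw [LinearMap.sum_apply]
    rfl
  obtain ⟨b, Φ, hΦ1, hΦ2⟩ := exists_rows (LinearMap.ker f)
  let g : (Fin b → S) →ₗ[S] (Fin a → A) := LinearMap.pi (fun k =>
    (Algebra.linearMap S A).comp (∑ i, (LinearMap.toSpanSingleton S S (Φ i k)).comp
      (LinearMap.proj i)))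
  have hg : ∀ y k, g y k = algebraMap S A (∑ i, y i * Φ i k) := by
    intro y k
    change algebraMap S A ((∑ i, (LinearMap.toSpanSingleton S S (Φ i k)).comp
      (LinearMap.proj i) : (Fin b → S) →ₗ[S] S) y) = _
    rw [LinearMap.sum_apply]
    rfl
  obtain ⟨c, Ψ, hΨ1, hΨ2⟩ := exists_rows (LinearMap.ker g)
  refine ⟨b, c, Φ, Ψ, ⟨fun i => ?_, fun x hx => ?_, fun l k => ?_, fun y hy => ?_⟩⟩
  · rw [← hf]
    exact hΦ1 i
  · exact hΦ2 x (by rw [LinearMap.mem_ker, hf]; exact hx)
  · rw [← hg]
    have := hΨ1 l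
    rw [LinearMap.mem_ker] at this
    exact congrFun this k
  · exact hΨ2 y (by
      rw [LinearMap.mem_ker]
      funext k
      rw [hg]
      exact hy k)

section homotopy

variable [IsDomain A] {j : Fin a → A} {Φ : Matrix (Fin b) (Fin a) S}
  {Ψ : Matrix (Fin c) (Fin b) S}

/-- homotopy from a local generator -/
theorem Pres.homotopy (hP : Pres j Φ Ψ) (s : S) (γ : Fin a → S) (i₀ : Fin a) (hj : j i₀ ≠ 0)
    (hs : ∀ k, s • j k = γ k • j i₀) :
    ∃ (h₀ : Matrix (Fin a) (Fin b) S) (h₁ : Matrix (Fin b) (Fin c) S),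
      ∀ i i', (if i = i' then s else 0) = ∑ k, Φ i k * h₀ k i' + ∑ l, h₁ i l * Ψ l i' := by
  classical
  -- first step
  have h1 : ∀ k : Fin a, ∃ y : Fin b → S, ∀ m,
      (if m = k then s else 0) - (if m = i₀ then γ k else 0) = ∑ i, y i * Φ i m := by
    intro k
    apply hP.gen
    simp only [sub_smul, ite_smul, zero_smul, Finset.sum_sub_distrib, Finset.sum_ite_eq',
      Finset.mem_univ, if_true]
    rw [hs k, sub_self]
  choose h₀ hh₀ using h1
  have h2 : ∀ i : Fin b, ∃ z : Fin c → S, ∀ i',
      (if i' = i then s else 0) - ∑ k, Φ i k * h₀ k i' = ∑ l, z l * Ψ l i' := by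
    intro i
    apply hP.gen2
    intro m
    have e1 : ∑ i', ((if i' = i then s else 0) - ∑ k, Φ i k * h₀ k i') * Φ i' m =
        s * Φ i m - ∑ k, Φ i k * ∑ i', h₀ k i' * Φ i' m := by
      simp only [sub_mul, Finset.sum_sub_distrib, ite_mul, zero_mul, Finset.sum_ite_eq',
        Finset.mem_univ, if_true]
      congr 1
      simp only [Finset.sum_mul, Finset.mul_sum]
      rw [Finset.sum_comm]
      exact Finset.sum_congr rfl fun k _ => Finset.sum_congr rfl fun l _ => by ring
    have e2 : ∑ k, Φ i k * ∑ i', h₀ k i' * Φ i' m =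
        s * Φ i m - if m = i₀ then ∑ k, Φ i k * γ k else 0 := by
      have : ∀ k, Φ i k * ∑ i', h₀ k i' * Φ i' m =
          Φ i k * (if m = k then s else 0) - Φ i k * (if m = i₀ then γ k else 0) := by
        intro k
        rw [← hh₀ k m, mul_sub]
      simp only [this, Finset.sum_sub_distrib]
      congr 1
      · simp only [mul_ite, mul_zero, Finset.sum_ite_eq, Finset.mem_univ, if_true]
        ring
      · split_ifs with h
        · rfl
        · simp
    rw [e1, e2, sub_sub_cancel]
    split_ifs with h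
    · -- `∑ k, Φ i k * γ k = 0` in `A`
      have h3 : (∑ k, Φ i k * γ k) • j i₀ = 0 := by
        rw [Finset.sum_smul]
        have : ∑ k, (Φ i k * γ k) • j i₀ = s • ∑ k, Φ i k • j k := by
          rw [Finset.smul_sum]
          refine Finset.sum_congr rfl fun k _ => ?_
          rw [mul_smul, ← hs k, smul_comm]
        rw [this, hP.rel i, smul_zero]
      rw [Algebra.smul_def] at h3
      exact (mul_eq_zero.mp h3).resolve_right hj
    · exact map_zero _
  choose h₁ hh₁ using h2
  refine ⟨h₀, h₁, fun i i' => ?_⟩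
  have := hh₁ i i'
  rw [← this]
  by_cases h : i = i'
  · subst h; simp
  · rw [if_neg h, if_neg (Ne.symm h)]; ring

/-- the homotopy kills the homology of all images of the sequence under ring homomorphisms -/
theorem smul_H1_eq_zero (F : S →+* S) (s : S) (h₀ : Matrix (Fin a) (Fin b) S)
    (h₁ : Matrix (Fin b) (Fin c) S)
    (h : ∀ i i', (if i = i' then s else 0) = ∑ k, Φ i k * h₀ k i' + ∑ l, h₁ i l * Ψ l i')
    (T : Type*) [AddCommGroup T] [Module S T] (z : H1 (Φ.map F) (Ψ.map F) T) : F s • z = 0 := by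
  obtain ⟨⟨z, hz⟩, rfl⟩ := Submodule.Quotient.mk_surjective _ z
  rw [← Submodule.Quotient.mk_smul, Submodule.Quotient.mk_eq_zero]
  refine ⟨mv (h₀.map F) T z, ?_⟩
  change _ = F s • z
  have h1 : mv (h₁.map F) T (mv (Ψ.map F) T z) = 0 := by
    rw [LinearMap.mem_ker] at hz
    rw [hz, map_zero]
  rw [mv_mv]
  rw [mv_mv] at h1
  rw [← add_zero (mv (Φ.map F * h₀.map F) T z), ← h1]
  funext i
  rw [Pi.add_apply, mv_apply, mv_apply, ← Finset.sum_add_distrib, Pi.smul_apply]
  have h2 : ∀ i', ((Φ.map F * h₀.map F) i i' • z i' + (h₁.map F * Ψ.map F) i i' • z i') =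
      (if i = i' then F s else 0) • z i' := by
    intro i'
    rw [← add_smul]
    congr 1
    have := congrArg F (h i i')
    rw [map_add, map_sum, map_sum] at this
    simp only [map_mul] at this
    rw [Matrix.mul_apply, Matrix.mul_apply]
    simp only [Matrix.map_apply]
    rw [← this]
    split_ifs
    · rfl
    · exact map_zero F
  simp only [h2, ite_smul, zero_smul, Finset.sum_ite_eq, Finset.mem_univ, if_true]

end homotopy

section kernel

variable [IsDomain A] {j : Fin a → A} {Φ : Matrix (Fin b) (Fin a) S}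
  {Ψ : Matrix (Fin c) (Fin b) S}

/-- the kernel of the Frobenius power of the presentation matrix -/
theorem mem_ker_iff (hsurj : Function.Surjective (algebraMap S A)) (hP : Pres j Φ Ψ)
    (F : S →+* S) (FA : A →+* A) (hF : ∀ x, algebraMap S A (F x) = FA (algebraMap S A x))
    (i₀ : Fin a) (hj : FA (j i₀) ≠ 0) (y : Fin a → A) :
    y ∈ LinearMap.ker (mv (Φ.map F) A) ↔ ∀ k, FA (j i₀) * y k = FA (j k) * y i₀ := by
  classical
  choose ĵ hĵ using fun k => hsurj (j k)
  constructor
  · intro hy k
    obtain ⟨u, hu⟩ := hP.gen (fun m => (if m = k then ĵ i₀ else 0) - (if m = i₀ then ĵ k else 0)) (by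
      simp only [sub_smul, ite_smul, zero_smul, Finset.sum_sub_distrib, Finset.sum_ite_eq',
        Finset.mem_univ, if_true]
      rw [Algebra.smul_def, Algebra.smul_def, hĵ, hĵ]
      ring)
    have h1 : ∑ m, (∑ i, F (u i) * F (Φ i m)) • y m = 0 := by
      have : ∀ m, (∑ i, F (u i) * F (Φ i m)) • y m = ∑ i, F (u i) • (F (Φ i m) • y m) := by
        intro m
        rw [Finset.sum_smul]
        exact Finset.sum_congr rfl fun i _ => mul_smul _ _ _
      simp only [this]
      rw [Finset.sum_comm]
      refine Finset.sum_eq_zero fun i _ => ?_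
      rw [← Finset.smul_sum]
      have h2 := congrFun (LinearMap.mem_ker.mp hy) i
      rw [mv_apply] at h2
      simp only [Matrix.map_apply] at h2
      rw [h2]
      exact smul_zero _
    have h3 : ∀ m, ∑ i, F (u i) * F (Φ i m) =
        (if m = k then F (ĵ i₀) else 0) - (if m = i₀ then F (ĵ k) else 0) := by
      intro m
      have := congrArg F (hu m)
      rw [map_sum] at this
      simp only [map_mul] at this
      rw [← this, map_sub]
      congr 1 <;> split_ifs <;> simp
    simp only [h3, sub_smul, ite_smul, zero_smul, Finset.sum_sub_distrib, Finset.sum_ite_eq',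
        Finset.mem_univ, if_true] at h1
    rw [Algebra.smul_def, Algebra.smul_def, hF, hF, hĵ, hĵ] at h1
    exact sub_eq_zero.mp h1
  · intro hy
    rw [LinearMap.mem_ker]
    funext i
    rw [mv_apply, Pi.zero_apply]
    have h1 : FA (j i₀) * ∑ k, (Φ.map F) i k • y k = 0 := by
      rw [Finset.mul_sum]
      have h2 : ∀ k, FA (j i₀) * ((Φ.map F) i k • y k) = FA (Φ i k • j k) * y i₀ := by
        intro k
        rw [Algebra.smul_def, Algebra.smul_def, Matrix.map_apply, hF, map_mul]
        linear_combination (FA (algebraMap S A (Φ i k))) * hy k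
      simp only [h2]
      rw [← Finset.sum_mul, ← map_sum, hP.rel i, map_zero, zero_mul]
    exact (mul_eq_zero.mp h1).resolve_left hj

variable {K : Type*} [Field K] [Algebra A K] [IsFractionRing A K] [Algebra S K]
  [IsScalarTower S A K]

/-- the module `(A : (v_k))` -/
def dualM (S A : Type*) [CommRing S] [CommRing A] [Algebra S A] {K : Type*} [Field K] [Algebra A K]
    [Algebra S K] [IsScalarTower S A K] {α : Type*} (v : α → K) : Submodule S K where
  carrier := {z | ∀ k, ∃ x : A, algebraMap A K x = z * v k}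
  add_mem' := by
    intro z z' hz hz' k
    obtain ⟨x, hx⟩ := hz k
    obtain ⟨x', hx'⟩ := hz' k
    exact ⟨x + x', by rw [map_add, hx, hx', add_mul]⟩
  zero_mem' := fun k => ⟨0, by rw [map_zero, zero_mul]⟩
  smul_mem' := by
    intro s z hz k
    obtain ⟨x, hx⟩ := hz k
    refine ⟨s • x, ?_⟩
    rw [Algebra.smul_def, map_mul, hx, Algebra.smul_def, IsScalarTower.algebraMap_apply S A K,
      mul_assoc]

omit [IsDomain A] [IsFractionRing A K] in
lemma mem_dualM {α : Type*} (v : α → K) (z : K) :
    z ∈ dualM S A v ↔ ∀ k, ∃ x : A, algebraMap A K x = z * v k := Iff.rfl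

/-- the kernel is isomorphic to `(A : (F j_k))` -/
theorem exists_equiv_dualM (hsurj : Function.Surjective (algebraMap S A)) (hP : Pres j Φ Ψ)
    (F : S →+* S) (FA : A →+* A) (hF : ∀ x, algebraMap S A (F x) = FA (algebraMap S A x))
    (i₀ : Fin a) (hj : FA (j i₀) ≠ 0) :
    Nonempty (LinearMap.ker (mv (Φ.map F) A) ≃ₗ[S]
      dualM S A (fun k => algebraMap A K (FA (j k)))) := by
  have hinj : Function.Injective (algebraMap A K) := IsFractionRing.injective A K
  have hj' : algebraMap A K (FA (j i₀)) ≠ 0 := by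
    rw [Ne, map_eq_zero_iff _ hinj]
    exact hj
  let f : LinearMap.ker (mv (Φ.map F) A) →ₗ[S] K :=
    { toFun := fun y => algebraMap A K (y.1 i₀) * (algebraMap A K (FA (j i₀)))⁻¹
      map_add' := by
        intro y y'
        change algebraMap A K (y.1 i₀ + y'.1 i₀) * _ = _
        rw [map_add, add_mul]
      map_smul' := by
        intro s y
        change algebraMap A K (s • y.1 i₀) * _ = _
        rw [Algebra.smul_def, map_mul, RingHom.id_apply, Algebra.smul_def,
          IsScalarTower.algebraMap_apply S A K, mul_assoc] }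
  have hfinj : Function.Injective f := by
    rw [injective_iff_map_eq_zero]
    intro y hy
    have h1 : algebraMap A K (y.1 i₀) = 0 := by
      have : algebraMap A K (y.1 i₀) * (algebraMap A K (FA (j i₀)))⁻¹ = 0 := hy
      exact (mul_eq_zero.mp this).resolve_right (inv_ne_zero hj')
    rw [map_eq_zero_iff _ hinj] at h1
    apply Subtype.ext
    funext k
    have h2 := (mem_ker_iff hsurj hP F FA hF i₀ hj y.1).mp y.2 k
    rw [h1, mul_zero] at h2
    exact (mul_eq_zero.mp h2).resolve_left hj
  have hrange : LinearMap.range f = dualM S A (fun k => algebraMap A K (FA (j k))) := by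
    ext z
    rw [LinearMap.mem_range, mem_dualM]
    constructor
    · rintro ⟨y, rfl⟩ k
      refine ⟨y.1 k, ?_⟩
      have h2 := (mem_ker_iff hsurj hP F FA hF i₀ hj y.1).mp y.2 k
      have h3 := congrArg (algebraMap A K) h2
      rw [map_mul, map_mul] at h3
      change _ = algebraMap A K (y.1 i₀) * (algebraMap A K (FA (j i₀)))⁻¹ * _
      field_simp
      rw [mul_comm, h3, mul_comm]
    · intro hz
      choose y hy using hz
      have hyk : y ∈ LinearMap.ker (mv (Φ.map F) A) := by
        rw [mem_ker_iff hsurj hP F FA hF i₀ hj]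
        intro k
        apply hinj
        rw [map_mul, map_mul, hy, hy]
        ring
      refine ⟨⟨y, hyk⟩, ?_⟩
      change algebraMap A K (y i₀) * (algebraMap A K (FA (j i₀)))⁻¹ = z
      rw [hy]
      field_simp
  exact ⟨(LinearEquiv.ofInjective f hfinj).trans (LinearEquiv.ofEq _ _ hrange)⟩

end kernel

end Groth.Agent.Lefpen.H715.Pres
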