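import Groth.Agent.Lefpen.H715.Pres

/-!
Regular sequences on the quotient `A = S/(G)` in powers of the maximal ideal; comparison of tuples
away from the closed point.
-/

set_option autoImplicit false
universe u

namespace Groth.Agent.Lefpen.H715.RegA

open IsLocalRing Groth.Agent.CalgB.DepthLite Groth.Agent.Lefpen.H715.LiftFree
  Groth.Agent.Lefpen.H715.Cplx Groth.Agent.Lefpen.H715.Bound Groth.Agent.Lefpen.H715.Pres
  Groth.Agent.Lefpen.H715.RegSeq
open scoped Pointwise

variable {S : Type u} [CommRing S] [IsLocalRing S] [IsNoetherianRing S]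

omit [IsLocalRing S] [IsNoetherianRing S] in
lemma reg3_of_isWeaklyRegular {T : Type*} [AddCommGroup T] [Module S T] {F₀ F₁ F₂ : S}
    (h : RingTheory.Sequence.IsWeaklyRegular T [F₀, F₁, F₂]) : Reg3 T F₀ F₁ F₂ := by
  rw [RingTheory.Sequence.isWeaklyRegular_cons_iff, RingTheory.Sequence.isWeaklyRegular_cons_iff,
    RingTheory.Sequence.isWeaklyRegular_singleton_iff] at h
  obtain ⟨h0, h1, h2⟩ := h
  refine ⟨⟨fun x hx => h0.right_eq_zero_of_smul hx, fun x y hxy => ?_⟩, fun x y z hxyz => ?_⟩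
  · have h3 : (Submodule.Quotient.mk x : QuotSMulTop F₀ T) = 0 := by
      apply h1.right_eq_zero_of_smul
      rw [← Submodule.Quotient.mk_smul, Submodule.Quotient.mk_eq_zero,
        Submodule.mem_smul_pointwise_iff_exists]
      exact ⟨y, trivial, hxy.symm⟩
    rw [Submodule.Quotient.mk_eq_zero, Submodule.mem_smul_pointwise_iff_exists] at h3
    obtain ⟨z, -, hz⟩ := h3
    exact ⟨z, hz.symm⟩
  · have h3 : (Submodule.Quotient.mk (Submodule.Quotient.mk x : QuotSMulTop F₀ T) :
        QuotSMulTop F₁ (QuotSMulTop F₀ T)) = 0 := by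
      apply h2.right_eq_zero_of_smul
      rw [← Submodule.Quotient.mk_smul, Submodule.Quotient.mk_eq_zero,
        Submodule.mem_smul_pointwise_iff_exists]
      refine ⟨Submodule.Quotient.mk z, trivial, ?_⟩
      rw [← Submodule.Quotient.mk_smul, ← Submodule.Quotient.mk_smul, Submodule.Quotient.eq,
        Submodule.mem_smul_pointwise_iff_exists]
      refine ⟨-y, trivial, ?_⟩
      rw [hxyz, smul_neg]
      abel
    rw [Submodule.Quotient.mk_eq_zero, Submodule.mem_smul_pointwise_iff_exists] at h3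
    obtain ⟨v, -, hv⟩ := h3
    obtain ⟨v, rfl⟩ := Submodule.Quotient.mk_surjective _ v
    rw [← Submodule.Quotient.mk_smul, Submodule.Quotient.eq,
      Submodule.mem_smul_pointwise_iff_exists] at hv
    obtain ⟨u, -, hu⟩ := hv
    refine ⟨-u, v, ?_⟩
    rw [smul_neg, hu]
    abel

/-- regular sequences of length three in all powers of the maximal ideal -/
theorem exists_reg3 {T : Type u} [AddCommGroup T] [Module S T] [Module.Finite S T] [Nontrivial T]
    (h : EV (kk S) (ModuleCat.of S T) 3) (N : ℕ) :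
    ∃ F₀ F₁ F₂ : S, F₀ ∈ maximalIdeal S ^ N ∧ F₁ ∈ maximalIdeal S ^ N ∧ F₂ ∈ maximalIdeal S ^ N ∧
      Reg3 T F₀ F₁ F₂ := by
  obtain ⟨rs, hlen, hmem, hreg⟩ := exists_regular_of_EV h
  have h2 := Groth.Agent.Smoothlim.PowRegular.isWeaklyRegular_map_pow_append rs [] N (M := T)
    (by rw [List.append_nil]; exact hreg.toIsWeaklyRegular)
  rw [List.append_nil] at h2
  match rs, hlen with
  | [f₀, f₁, f₂], _ =>
    have hm : ∀ r ∈ [f₀, f₁, f₂], r ^ (N + 1) ∈ maximalIdeal S ^ N := fun r hr =>
      Ideal.pow_le_pow_right (Nat.le_succ N) (Ideal.pow_mem_pow (hmem r hr) (N + 1))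
    exact ⟨f₀ ^ (N + 1), f₁ ^ (N + 1), f₂ ^ (N + 1), hm _ (by simp), hm _ (by simp), hm _ (by simp),
      reg3_of_isWeaklyRegular h2⟩

section LeU

variable {K : Type*} [Field K] [Algebra S K]

/-- `v ≤ u` away from the closed point -/
def LeU (S : Type*) [CommRing S] [IsLocalRing S] {K : Type*} [Field K] [Algebra S K]
    {α β : Type*} (v : α → K) (u : β → K) : Prop :=
  ∃ N : ℕ, ∀ s ∈ maximalIdeal S ^ N, ∀ k, s • v k ∈ Submodule.span S (Set.range u)

/-- `u` generates an invertible module away from the closed point -/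
def InvU (S : Type*) [CommRing S] [IsLocalRing S] {K : Type*} [Field K] [Algebra S K]
    {α : Type*} (u : α → K) : Prop :=
  ∃ N : ℕ, maximalIdeal S ^ N ≤
    Ideal.span {s : S | ∃ i, u i ≠ 0 ∧ ∀ k, ∃ c : S, s • u k = c • u i}

omit [IsNoetherianRing S] in
lemma LeU.trans {α β γ : Type*} {u : α → K} {v : β → K} {w : γ → K} (h : LeU S u v)
    (h' : LeU S v w) : LeU S u w := by
  obtain ⟨N, hN⟩ := h
  obtain ⟨N', hN'⟩ := h'
  refine ⟨N + N', fun s hs k => ?_⟩
  rw [pow_add, mul_comm] at hs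
  refine Submodule.mul_induction_on hs (fun x hx y hy => ?_) (fun x y hx hy => ?_)
  · rw [mul_smul]
    have h1 := hN y hy k
    generalize y • u k = t at h1
    induction h1 using Submodule.span_induction with
    | mem t ht =>
      obtain ⟨l, rfl⟩ := ht
      exact hN' x hx l
    | zero => rw [smul_zero]; exact zero_mem _
    | add t t' _ _ h1 h2 => rw [smul_add]; exact add_mem h1 h2
    | smul r t _ h1 => rw [smul_comm]; exact Submodule.smul_mem _ _ h1
  · rw [add_smul]; exact add_mem hx hy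

omit [IsNoetherianRing S] in
lemma LeU.smul {α β : Type*} {u : α → K} {v : β → K} (h : LeU S u v) (c : K) :
    LeU S (fun k => c * u k) (fun l => c * v l) := by
  obtain ⟨N, hN⟩ := h
  refine ⟨N, fun s hs k => ?_⟩
  have h1 := hN s hs k
  change s • (c * u k) ∈ _
  rw [mul_comm, ← Algebra.smul_mul_assoc]
  generalize s • u k = t at h1
  induction h1 using Submodule.span_induction with
  | mem t ht =>
    obtain ⟨l, rfl⟩ := ht
    exact Submodule.subset_span ⟨l, mul_comm _ _⟩
  | zero => rw [zero_mul]; exact zero_mem _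
  | add t t' _ _ h1 h2 => rw [add_mul]; exact add_mem h1 h2
  | smul r t _ h1 => rw [Algebra.smul_mul_assoc]; exact Submodule.smul_mem _ _ h1

variable {A : Type*} [CommRing A] [Algebra S A] [Algebra A K] [IsScalarTower S A K]
  [IsFractionRing A K]

omit [IsNoetherianRing S] [IsLocalRing S] in
/-- depth two: sections over the punctured spectrum extend -/
theorem mem_of_pow_smul [IsDomain A] {F₀ F₁ : S} (h : Reg2 A F₀ F₁) (hne : algebraMap S A F₀ ≠ 0)
    (t : K)
    (h0 : ∃ x : A, algebraMap A K x = F₀ • t) (h1 : ∃ x : A, algebraMap A K x = F₁ • t) :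
    ∃ x : A, algebraMap A K x = t := by
  obtain ⟨x0, hx0⟩ := h0
  obtain ⟨x1, hx1⟩ := h1
  have hinj : Function.Injective (algebraMap A K) := IsFractionRing.injective A K
  have hsm : ∀ (r : S) (x : A), algebraMap A K (r • x) = r • algebraMap A K x := by
    intro r x
    rw [Algebra.smul_def, map_mul, Algebra.smul_def, IsScalarTower.algebraMap_apply S A K]
  obtain ⟨z, hz⟩ := h.r1 x0 x1 (hinj (by rw [hsm, hsm, hx0, hx1, smul_comm]))
  refine ⟨z, ?_⟩
  rw [hz, hsm] at hx0
  have hne' : algebraMap S K F₀ ≠ 0 := by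
    rw [IsScalarTower.algebraMap_apply S A K, Ne, map_eq_zero_iff _ hinj]
    exact hne
  rw [Algebra.smul_def, Algebra.smul_def] at hx0
  exact mul_left_cancel₀ hne' hx0

omit [IsNoetherianRing S] in
/-- the dual module only depends on the tuple away from the closed point -/
theorem dualM_le [IsDomain A] {α β : Type*} {v : α → K} {u : β → K} (h : LeU S v u)
    (hreg : ∀ N : ℕ, ∃ F₀ F₁ : S, F₀ ∈ maximalIdeal S ^ N ∧ F₁ ∈ maximalIdeal S ^ N ∧
      algebraMap S A F₀ ≠ 0 ∧ Reg2 A F₀ F₁) :
    dualM S A u ≤ dualM S A v := by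
  intro z hz k
  obtain ⟨N, hN⟩ := h
  obtain ⟨F₀, F₁, hF₀, hF₁, hne, hF⟩ := hreg N
  have key : ∀ s ∈ maximalIdeal S ^ N, ∃ x : A, algebraMap A K x = s • (z * v k) := by
    intro s hs
    have h1 := hN s hs k
    rw [mul_comm, ← Algebra.smul_mul_assoc]
    generalize s • v k = t at h1
    induction h1 using Submodule.span_induction with
    | mem t ht =>
      obtain ⟨l, rfl⟩ := ht
      obtain ⟨x, hx⟩ := hz l
      exact ⟨x, by rw [hx, mul_comm]⟩
    | zero => exact ⟨0, by rw [map_zero, zero_mul]⟩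
    | add t t' _ _ h1 h2 =>
      obtain ⟨x, hx⟩ := h1
      obtain ⟨x', hx'⟩ := h2
      exact ⟨x + x', by rw [map_add, hx, hx', add_mul]⟩
    | smul r t _ h1 =>
      obtain ⟨x, hx⟩ := h1
      exact ⟨r • x, by
        rw [Algebra.smul_def, map_mul, hx, Algebra.smul_mul_assoc, Algebra.smul_def,
          IsScalarTower.algebraMap_apply S A K]⟩
  exact mem_of_pow_smul hF hne _ (key F₀ hF₀) (key F₁ hF₁)

omit [IsNoetherianRing S] [IsLocalRing S] [IsFractionRing A K] in
/-- scaling -/
theorem exists_equiv_scale {α : Type*} (v : α → K) (w : K) (hw : w ≠ 0) :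
    Nonempty (dualM S A v ≃ₗ[S] dualM S A (fun k => w * v k)) := by
  let f : dualM S A v →ₗ[S] K := (LinearMap.mulLeft S (w⁻¹)).comp (dualM S A v).subtype
  have hf : Function.Injective f := by
    intro x y hxy
    apply Subtype.ext
    exact mul_left_cancel₀ (inv_ne_zero hw) hxy
  have hr : LinearMap.range f = dualM S A (fun k => w * v k) := by
    ext z
    constructor
    · rintro ⟨⟨x, hx⟩, rfl⟩ k
      obtain ⟨y, hy⟩ := hx k
      refine ⟨y, ?_⟩
      change _ = w⁻¹ * x * (w * v k)
      rw [hy]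
      field_simp
    · intro hz
      refine ⟨⟨w * z, fun k => ?_⟩, ?_⟩
      · obtain ⟨y, hy⟩ := hz k
        exact ⟨y, by rw [hy]; ring⟩
      · change w⁻¹ * (w * z) = z
        field_simp
  exact ⟨(LinearEquiv.ofInjective f hf).trans (LinearEquiv.ofEq _ _ hr)⟩

end LeU

end Groth.Agent.Lefpen.H715.RegA
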