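import Groth.Agent.Lefpen.H715.LiftFree
import Groth.Agent.Smoothlim.PowRegular
import Groth.Agent.Localalg.Lech

/-!
Permutably regular sequences with exponents in a Noetherian local ring, from weakly regular sequences.
-/

set_option autoImplicit false
universe u

namespace Groth.Agent.Lefpen.H715.RegSeq

open IsLocalRing Groth.Agent.Lefpen.H715.LiftFree RingTheory.Sequence
open scoped Pointwise

variable {S : Type u} [CommRing S] {ι : Type*}

/-- the sequence of powers -/
def pw (G : ι → S) (e : ι → ℕ) : ι → S := fun i => G i ^ e i

/-- permutably regular, with all exponents -/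
def HReg (G : ι → S) : Prop := ∀ e : ι → ℕ, (∀ i, e i ≠ 0) → PReg (pw G e)

lemma HReg.preg {G : ι → S} (h : HReg G) : PReg G := by
  have := h (fun _ => 1) (fun _ => one_ne_zero)
  have e : pw G (fun _ => 1) = G := by
    funext i
    simp [pw]
  rwa [e] at this

lemma isWeaklyRegular_map_pow {M : Type*} [AddCommGroup M] [Module S M] (G : ι → S) (e : ι → ℕ)
    (he : ∀ i, e i ≠ 0) (l : List ι) (h : IsWeaklyRegular M (l.map G)) :
    IsWeaklyRegular M (l.map (pw G e)) := by
  induction l generalizing M with
  | nil => exact .nil _ _
  | cons i l ih =>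
    rw [List.map_cons, isWeaklyRegular_cons_iff] at h ⊢
    obtain ⟨k, hk⟩ := Nat.exists_eq_succ_of_ne_zero (he i)
    have hp : pw G e i = G i ^ (k + 1) := by
      unfold pw
      rw [hk]
    rw [hp]
    exact ⟨h.1.pow (k + 1), Groth.Agent.Smoothlim.PowRegular.isWeaklyRegular_quotSMulTop_pow h.1 (ih h.2) k⟩

/-- regular sequences in the maximal ideal of a Noetherian local ring are permutably regular, with
all exponents. -/
theorem hreg_of_isWeaklyRegular [IsLocalRing S] [IsNoetherianRing S] {d : ℕ} (G : Fin d → S)
    (hG : IsWeaklyRegular S (List.ofFn G)) (hm : ∀ i, G i ∈ maximalIdeal S) : HReg G := by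
  classical
  intro e he t i hi x hx
  have h0 : IsWeaklyRegular S ((List.finRange d).map G) := by
    rw [← List.ofFn_eq_map]
    exact hG
  have hperm : (List.finRange d).Perm ((t.toList ++ [i]) ++ (insert i t)ᶜ.toList) := by
    apply (List.perm_ext_iff_of_nodup (List.nodup_finRange d) _).mpr
    · intro a
      simp only [List.mem_finRange, List.mem_append, Finset.mem_toList, List.mem_singleton,
        Finset.mem_compl, Finset.mem_insert, true_iff]
      tauto
    · rw [List.nodup_append, List.nodup_append]
      refine ⟨⟨t.nodup_toList, List.nodup_singleton i, ?_⟩, Finset.nodup_toList _, ?_⟩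
      · intro a ha b hb hab
        rw [List.mem_singleton] at hb
        rw [Finset.mem_toList] at ha
        exact hi (by rw [← hb, ← hab]; exact ha)
      · intro a ha b hb hab
        rw [List.mem_append, Finset.mem_toList, List.mem_singleton] at ha
        rw [Finset.mem_toList, Finset.mem_compl, Finset.mem_insert] at hb
        exact hb (by rw [← hab]; tauto)
  have h1 := IsLocalRing.isWeaklyRegular_of_perm_of_subset_maximalIdeal h0 (hperm.map G) (by
    intro r hr
    rw [List.mem_map] at hr
    obtain ⟨j, -, rfl⟩ := hr
    exact hm j)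
  have h2 := isWeaklyRegular_map_pow G e he _ h1
  rw [List.map_append, isWeaklyRegular_append_iff] at h2
  have h3 := h2.1
  rw [List.map_append, isWeaklyRegular_append_iff, List.map_singleton,
    isWeaklyRegular_singleton_iff] at h3
  have h4 := h3.2
  have hset : Ideal.ofList (t.toList.map (pw G e)) = aa (pw G e) t := by
    unfold Ideal.ofList aa
    congr 1
    ext y
    simp [List.mem_map]
  have h5 : (Ideal.ofList (t.toList.map (pw G e)) • ⊤ : Submodule S S) = aa (pw G e) t := by
    rw [hset, smul_eq_mul, Ideal.mul_top]
  have h6 : Submodule.Quotient.mk x = (0 : S ⧸ (Ideal.ofList (t.toList.map (pw G e)) • ⊤ : Submodule S S)) := by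
    apply h4.right_eq_zero_of_smul
    rw [← Submodule.Quotient.mk_smul, Submodule.Quotient.mk_eq_zero, h5]
    exact hx
  rw [Submodule.Quotient.mk_eq_zero, h5] at h6
  exact h6

end Groth.Agent.Lefpen.H715.RegSeq
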