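import Groth.Agent.Lefpen.H715.Kill
import Groth.Agent.Lefpen.H715.Frob

/-!
Triviality of a tuple from the vanishing of the homology of its (Frobenius power) presentation:
the dual module is maximal Cohen-Macaulay and lifts to first order in all directions, hence it is free.
-/

set_option autoImplicit false
universe u

namespace Groth.Agent.Lefpen.H715.Trivial

open IsLocalRing Groth.Agent.CalgB.DepthLite Groth.Agent.Lefpen.H715.LiftFree
  Groth.Agent.Lefpen.H715.RegSeq Groth.Agent.Localalg.Lech
  Groth.Agent.Lefpen.H715.Cplx Groth.Agent.Lefpen.H715.Bound Groth.Agent.Lefpen.H715.Pres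
  Groth.Agent.Lefpen.H715.RegA Groth.Agent.Lefpen.H715.Kill

variable {S : Type u} [CommRing S] {a b c : ℕ}

/-- depth of the kernel when the middle homology vanishes -/
theorem EV_ker [IsLocalRing S] [IsNoetherianRing S] (Φ : Matrix (Fin b) (Fin a) S)
    (Ψ : Matrix (Fin c) (Fin b) S) (T : Type u) [AddCommGroup T] [Module S T]
    (hT : EV (kk S) (ModuleCat.of S T) 3) (h0 : Subsingleton (H1 Φ Ψ T))
    (hc : ∀ x : Fin a → T, mv Ψ T (mv Φ T x) = 0) :
    EV (kk S) (ModuleCat.of S (LinearMap.ker (mv Φ T))) 3 := by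
  have hex : LinearMap.range (mv Φ T) = LinearMap.ker (mv Ψ T) := by
    apply le_antisymm
    · rintro _ ⟨x, rfl⟩
      exact hc x
    · intro x hx
      have h1 : (Submodule.Quotient.mk ⟨x, hx⟩ : H1 Φ Ψ T) = 0 := Subsingleton.elim _ _
      rw [Submodule.Quotient.mk_eq_zero] at h1
      exact h1
  have h1 : EV (kk S) (ModuleCat.of S (LinearMap.range (mv Ψ T))) 1 :=
    EV.left_one' (f := (LinearMap.range (mv Ψ T)).subtype) (Submodule.injective_subtype _)
      ((EV.pi hT c).mono (by omega))
  have h2 : EV (kk S) (ModuleCat.of S (LinearMap.ker (mv Ψ T))) 2 := by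
    refine EV.left' (f := (LinearMap.ker (mv Ψ T)).subtype) (g := (mv Ψ T).rangeRestrict)
      (Submodule.injective_subtype _) ?_ (LinearMap.surjective_rangeRestrict _)
      ((EV.pi hT b).mono (by omega)) h1
    intro x
    constructor
    · intro hx
      exact ⟨⟨x, congrArg Subtype.val hx⟩, rfl⟩
    · rintro ⟨y, rfl⟩
      exact Subtype.ext y.2
  rw [← hex] at h2
  refine EV.left' (f := (LinearMap.ker (mv Φ T)).subtype) (g := (mv Φ T).rangeRestrict)
      (Submodule.injective_subtype _) ?_ (LinearMap.surjective_rangeRestrict _)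
      (EV.pi hT a) h2
  intro x
  constructor
  · intro hx
    exact ⟨⟨x, congrArg Subtype.val hx⟩, rfl⟩
  · rintro ⟨y, rfl⟩
    exact Subtype.ext y.2

/-- the kernel lifts to first order in the direction `G_i` -/
theorem liftable_ker {ι : Type*} [Fintype ι] [DecidableEq ι] (G : ι → S) (hG : HReg G)
    (Φ : Matrix (Fin b) (Fin a) S) (Ψ : Matrix (Fin c) (Fin b) S) (i : ι)
    (h0 : Subsingleton (H1 Φ Ψ (S ⧸ aa G Finset.univ)))
    (hc : ∀ k l, (Ψ * Φ) k l ∈ Ideal.span {G i * G i} ⊔ aa G (Finset.univ.erase i)) :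
    Liftable G Finset.univ (LinearMap.ker (mv Φ (S ⧸ aa G Finset.univ))) i := by
  have hK : ∀ x, G i * x ∈ aa G (Finset.univ.erase i) → x ∈ aa G (Finset.univ.erase i) :=
    hG.preg _ i (Finset.notMem_erase i _)
  have hKj : ∀ j, j ≠ i → G j ∈ aa G (Finset.univ.erase i) := fun j hj =>
    mem_aa (Finset.mem_erase.mpr ⟨hj, Finset.mem_univ j⟩)
  rw [aa_univ_eq G i] at h0 ⊢
  generalize aa G (Finset.univ.erase i) = K at *
  have hαinj : Function.Injective (mulMap K (G i) (G i)) := by
    rw [injective_iff_map_eq_zero]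
    intro x hx
    obtain ⟨x, rfl⟩ := Submodule.Quotient.mk_surjective _ x
    have hx' : (Submodule.Quotient.mk (G i * x) : S ⧸ (Ideal.span {G i * G i} ⊔ K)) = 0 := hx
    rw [Submodule.Quotient.mk_eq_zero] at hx' ⊢
    obtain ⟨y, hy, z, hz, hyz⟩ := Submodule.mem_sup.mp hx'
    obtain ⟨c, rfl⟩ := Ideal.mem_span_singleton'.mp hy
    have h2 : x - c * G i ∈ K := by
      apply hK
      have : G i * (x - c * G i) = z := by
        rw [mul_sub, ← hyz]; ring
      rw [this]; exact hz
    have : x = c * G i + (x - c * G i) := by ring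
    rw [this]
    exact add_mem (Submodule.mem_sup_left (Ideal.mul_mem_left _ _
      (Ideal.mem_span_singleton_self _))) (Submodule.mem_sup_right h2)
  have hex := exact_mulMap_projMap K (G i) (G i)
  have hsurj := projMap_surjective K (G i) (G i)
  have hcomp : ∀ x, mulMap K (G i) (G i) (projMap K (G i) (G i) x) = G i • x := by
    intro x
    obtain ⟨x, rfl⟩ := Submodule.Quotient.mk_surjective _ x
    rfl
  have hc0 : ∀ x : Fin a → S ⧸ (Ideal.span {G i * G i} ⊔ K),
      mv Ψ _ (mv Φ _ x) = 0 := by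
    intro x
    rw [mv_mv]
    refine mv_eq_zero (fun k l y => ?_) x
    obtain ⟨y, rfl⟩ := Submodule.Quotient.mk_surjective _ y
    rw [← Submodule.Quotient.mk_smul, Submodule.Quotient.mk_eq_zero]
    exact Ideal.mul_mem_right _ _ (hc k l)
  refine ⟨LinearMap.ker (mv Φ (S ⧸ (Ideal.span {G i * G i} ⊔ K))), inferInstance, inferInstance,
    kerMap Φ (mulMap K (G i) (G i)), kerMap Φ (projMap K (G i) (G i)), ?_, ?_, ?_, ?_, ?_⟩
  · intro x y hxy
    apply Subtype.ext
    funext k
    apply hαinj
    exact congrFun (congrArg Subtype.val hxy) k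
  · rintro ⟨y, hy⟩
    choose y' hy' using fun k => hsurj (y k)
    have h1 : ∀ k, projMap K (G i) (G i) (mv Φ _ y' k) = 0 := by
      intro k
      have h2 := congrFun (mv_natural Φ (projMap K (G i) (G i)) y') k
      rw [← h2]
      have h3 : (fun j => projMap K (G i) (G i) (y' j)) = y := funext hy'
      rw [h3]
      exact congrFun hy k
    choose z hz using fun k => (hex _).mp (h1 k)
    have hΨz : mv Ψ _ z = 0 := by
      funext l
      apply hαinj
      have h2 := congrFun (mv_natural Ψ (mulMap K (G i) (G i)) z) l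
      rw [← h2]
      have h3 : (fun j => mulMap K (G i) (G i) (z j)) = mv Φ _ y' := funext hz
      rw [h3, hc0, Pi.zero_apply, Pi.zero_apply, map_zero]
    have h4 : (Submodule.Quotient.mk ⟨z, hΨz⟩ : H1 Φ Ψ (S ⧸ (Ideal.span {G i} ⊔ K))) = 0 :=
      Subsingleton.elim _ _
    rw [Submodule.Quotient.mk_eq_zero] at h4
    obtain ⟨w, hw⟩ := h4
    have hw' : mv Φ _ w = z := hw
    refine ⟨⟨y' - (fun k => mulMap K (G i) (G i) (w k)), ?_⟩, ?_⟩
    · rw [LinearMap.mem_ker, map_sub, mv_natural, hw']
      have h3 : (fun j => mulMap K (G i) (G i) (z j)) = mv Φ _ y' := funext hz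
      rw [h3, sub_self]
    · apply Subtype.ext
      funext k
      change projMap K (G i) (G i) (y' k - mulMap K (G i) (G i) (w k)) = y k
      rw [map_sub, hy', hex.apply_apply_eq_zero, sub_zero]
  · rintro ⟨y, hy⟩
    constructor
    · intro h
      have h1 : ∀ k, projMap K (G i) (G i) (y k) = 0 := fun k => congrFun (congrArg Subtype.val h) k
      choose w hw using fun k => (hex _).mp (h1 k)
      have hw' : (fun k => mulMap K (G i) (G i) (w k)) = y := funext hw
      refine ⟨⟨w, ?_⟩, Subtype.ext hw'⟩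
      rw [LinearMap.mem_ker]
      funext k
      apply hαinj
      have h2 := congrFun (mv_natural Φ (mulMap K (G i) (G i)) w) k
      rw [← h2, hw', Pi.zero_apply, map_zero]
      exact congrFun hy k
    · rintro ⟨w, hw⟩
      apply Subtype.ext
      funext k
      have : mulMap K (G i) (G i) (w.1 k) = y k := congrFun (congrArg Subtype.val hw) k
      change projMap K (G i) (G i) (y k) = 0
      rw [← this, hex.apply_apply_eq_zero]
  · rintro ⟨y, hy⟩
    apply Subtype.ext
    funext k
    exact hcomp (y k)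
  · rintro j - hj ⟨y, hy⟩
    apply Subtype.ext
    funext k
    change G j • y k = 0
    obtain ⟨t, ht⟩ := Submodule.Quotient.mk_surjective _ (y k)
    rw [← ht, ← Submodule.Quotient.mk_smul, Submodule.Quotient.mk_eq_zero]
    exact Ideal.mul_mem_right _ _ (Submodule.mem_sup_right (hKj j hj))

end Groth.Agent.Lefpen.H715.Trivial
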