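import Groth.Agent.Lefpen.H61.T4Coc

/-!
# Tuples of forms generating a Cartier cocycle

`Tup G hdom hx b r`: forms `u l` (`l : Fin r`) of degrees `m l` such that, for a constant `κ` and an
integer `e`, at every point `x` of the chart `α` the function `u l / T_α^{m l}` is a multiple of
`κ * b x * (T_α / T_0)^e`, and a generator when `h l` does not vanish at `x`; the open sets
`D_+(h l)` cover `Y`.
-/

set_option autoImplicit false
universe u

open CategoryTheory CategoryTheory.Limits AlgebraicGeometry TopologicalSpace Opposite MvPolynomial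
open LefPen

namespace Groth.Agent.Lefpen.H715.TupDef

open Groth.Agent.Lefpen.H718.Reg Groth.Agent.Lefpen.H718.ConeCM Groth.Agent.Lefpen.H718.Grade
open Groth.Agent.Lefpen.H718.Chart Groth.Agent.Lefpen.H725.CocDef Groth.Agent.Lefpen.H121.ChartLift
open Groth.Agent.Lefpen.H61.T4Phi

variable {K : Type u} [Field K] {N d : ℕ} {a : Fin d → ℕ} (G : ∀ j : Fin d, Form N K (a j))
variable [IsIntegral (Y G)] (hdom : IsDomain (A (eqn G))) (hx : ∀ i, mk (eqn G) (X i) ≠ 0)

/-- `F / T_α ^ D` as a rational function on `Y` (for a form `F` of degree `D`) -/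
noncomputable def val (α : Fin (N + 1)) (F : MvPolynomial (Fin (N + 1)) K) : (Y G).functionField :=
  ff (ychart G α) (generic_mem G hdom hx α) (fn G α F)

/-- a tuple of forms generating (up to a constant and a twist) the Cartier cocycle `b`. -/
structure Tup (b : Y G → (Y G).functionField) (r : ℕ) where
  κ : (Y G).functionField
  κ_ne : κ ≠ 0
  e : ℤ
  m : Fin r → ℕ
  u : Fin r → MvPolynomial (Fin (N + 1)) K
  hu : ∀ l, (u l).IsHomogeneous (m l)
  n : Fin r → ℕ
  h : Fin r → MvPolynomial (Fin (N + 1)) K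
  hh : ∀ l, (h l).IsHomogeneous (n l)
  reg : ∀ l α (x : Y G), x ∈ ychart G α →
    RegAt x (val G hdom hx α (u l) / (κ * b x * val G hdom hx 0 (X α) ^ e))
  unit : ∀ l α (x : Y G), x ∈ ychart G α → UnitAt x (val G hdom hx α (h l)) →
    UnitAt x (val G hdom hx α (u l) / (κ * b x * val G hdom hx 0 (X α) ^ e))
  cover : ∀ α (x : Y G), x ∈ ychart G α → ∃ l, UnitAt x (val G hdom hx α (h l))

end Groth.Agent.Lefpen.H715.TupDef
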